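import Groth.Agent.S8855
import Groth.Agent.S8905
import Groth.Agent.Lib.BlowCoh8.Main
import Groth.Agent.Lib.BlowPt28.Pull
import Groth.Agent.Lib.DualTF27.Proj
import Groth.Agent.S11319
import Groth.Agent.Lib.RedSub.Basic

/-!
# Blow-ups of regular schemes in finitely many closed points
-/

set_option autoImplicit false
set_option linter.all false
set_option backward.isDefEq.respectTransparency false
set_option maxHeartbeats 1000000

universe u

open CategoryTheory CategoryTheory.Limits AlgebraicGeometry TopologicalSpace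

noncomputable section

namespace GrothLib.BlowPts12

/-- A reduced scheme with discrete space has fields as stalks. -/
theorem isField_stalk {Z : Scheme.{u}} [IsReduced Z] [DiscreteTopology Z] (z : Z) : IsField (Z.presheaf.stalk z) := by
  haveI : Subsingleton (Spec (Z.presheaf.stalk z)) := ⟨fun a b => by
    refine (Z.fromSpecStalk z).isEmbedding.injective ?_
    have hz : ∀ c, (Z.fromSpecStalk z) c = z := fun c => by
      have h : (Z.fromSpecStalk z) c ∈ Set.range (Z.fromSpecStalk z) := ⟨c, rfl⟩
      rw [Scheme.range_fromSpecStalk] at h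
      exact (h.eq).symm ▸ rfl
    rw [hz a, hz b]⟩
  haveI : Ring.KrullDimLE 0 (Z.presheaf.stalk z) := Ring.KrullDimLE.mk₀ fun I hI => by
    haveI := hI
    obtain ⟨M, hM, hle⟩ := I.exists_le_maximal hI.ne_top
    have h : (⟨I, hI⟩ : PrimeSpectrum (Z.presheaf.stalk z)) = ⟨M, hM.isPrime⟩ :=
      Subsingleton.elim (α := Spec (Z.presheaf.stalk z)) _ _
    rw [show I = M from congrArg PrimeSpectrum.asIdeal h]
    exact hM
  haveI : IsLocalRing (Z.presheaf.stalk z) := inferInstance
  exact Ring.KrullDimLE.isField_of_isReduced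

variable {X : Scheme.{u}} [IsLocallyNoetherian X] [IsIntegral X]
  (hreg : ∀ x : X, IsRegularLocalRing (X.presheaf.stalk x)) (S : Closeds X) (hSf : (S : Set X).Finite)
  (hcl : ∀ s ∈ S, IsClosed ({s} : Set X)) (hgen : genericPoint X ∉ S)

include hreg hSf hcl hgen in
/-- The ideal of finitely many closed regular points is locally generated by regular sequences. -/
theorem isLocSeq : BlowCoh8.IsLocSeq (Scheme.IdealSheafData.vanishingIdeal S) := by
  set J := Scheme.IdealSheafData.vanishingIdeal S with hJ
  have hr : Set.range J.subschemeι = (S : Set X) := by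
    rw [Scheme.IdealSheafData.range_subschemeι, hJ, Scheme.IdealSheafData.coe_support_vanishingIdeal]
  haveI : Finite J.subscheme := by
    haveI : Finite (Set.range J.subschemeι) := (hr ▸ hSf).to_subtype
    exact Finite.of_injective (Set.rangeFactorization J.subschemeι) fun a b h =>
      J.subschemeι.isClosedEmbedding.injective (congrArg Subtype.val h :)
  haveI : T1Space J.subscheme := ⟨fun z => by
    have h := (hcl _ (hr ▸ Set.mem_range_self z : J.subschemeι z ∈ (S : Set X))).preimage J.subschemeι.continuous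
    rwa [show J.subschemeι ⁻¹' {J.subschemeι z} = {z} from
      Set.ext fun w => ⟨fun hw => J.subschemeι.isClosedEmbedding.injective hw, fun hw => by rw [hw]; rfl⟩] at h⟩
  haveI : DiscreteTopology J.subscheme := inferInstance
  haveI : IsReduced J.subscheme := RedSub.isReduced_subscheme_vanishingIdeal _
  haveI : IsLocallyNoetherian J.subscheme := LocallyOfFiniteType.isLocallyNoetherian J.subschemeι
  have hZ : ∀ z : J.subscheme, IsRegularLocalRing (J.subscheme.presheaf.stalk z) := fun z => by
    letI := (isField_stalk z).toField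
    infer_instance
  have hd : Dense (Set.range J.subschemeι)ᶜ := by
    rw [hr]
    exact (S.isClosed.isOpen_compl).dense ⟨_, hgen⟩
  have h := BlowCoh8.isLocSeq_of_dense J.subschemeι
    ((Groth.Agent.S8905.result J.subschemeι).1 (Groth.Agent.S8855.result J.subschemeι hreg hZ)) hd
  rwa [Scheme.IdealSheafData.ker_subschemeι] at h

variable {X' : Scheme.{u}} {b : X' ⟶ X}

/-- `R^p b_* O = 0` as modules. -/
theorem isZero_Rpush_module {J : X.IdealSheafData} (hJ : BlowCoh8.IsLocSeq J) (hb : _root_.BlowUp.IsBlowUp b J)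
    [HasInjectiveResolutions X'.Modules] (p : ℕ) (hp : 1 ≤ p) :
    IsZero ((Coh.Rpush b p).obj (Coh.structureModule X')) := by
  haveI : (QCoh.toAbFun X).Faithful := inferInstanceAs (SheafOfModules.toSheaf _).Faithful
  obtain ⟨e⟩ := Groth.Agent.S11319.result b (Coh.structureModule X') p
  have h : IsZero ((QCoh.toAbFun X).obj ((Coh.Rpush b p).obj (Coh.structureModule X'))) :=
    (BlowCoh8.isZero_RpushAb_structure hJ hb p hp).of_iso e
  rw [IsZero.iff_id_eq_zero] at h ⊢
  apply (QCoh.toAbFun X).map_injective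
  rw [CategoryTheory.Functor.map_id, Functor.map_zero]
  exact h

/-- Pull-back keeps cohomology. -/
theorem nonempty_hhEquiv_pull (k : Type u) [Field k] [X.Over (Spec (CommRingCat.of k))]
    [X'.Over (Spec (CommRingCat.of k))] [IsProper (X ↘ Spec (CommRingCat.of k))]
    (hover : b ≫ X ↘ Spec (CommRingCat.of k) = X' ↘ Spec (CommRingCat.of k))
    {J : X.IdealSheafData} (hJ : BlowCoh8.IsLocSeq J) (hb : _root_.BlowUp.IsBlowUp b J)
    {N : X.Modules} (hN : PicF.IsInvertible N) (i : ℕ) :
    Nonempty (Coh.HH X' ((Scheme.Modules.pullback b).obj N) i ≃ₗ[k] Coh.HH X N i) := by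
  haveI : IsProper b := BlowCoh8.isProper_of_isLocSeq hJ hb
  haveI : IsProper (X' ↘ Spec (CommRingCat.of k)) := hover ▸ inferInstance
  haveI := Euler.isNoetherian_of_proper (X := X) k
  haveI := Euler.isNoetherian_of_proper (X := X') k
  letI := RpushSupp20.hasInjectiveResolutions X'
  let O := Coh.structureModule X'
  let G := (Scheme.Modules.pullback b).obj N
  have hbN := Ample.isInvertible_pullback b hN
  have eG : CohB1.tensorMod G O ≅ G := Euler.tFUnitIso _
  haveI : G.IsQuasicoherent := Euler.isQuasicoherent_of_isFinLocFree (Euler.isFinLocFree_of_isInvertible hbN)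
  have hz : ∀ p, 1 ≤ p → IsZero ((Coh.Rpush b p).obj G) := fun p hp => by
    obtain ⟨e⟩ := Groth.Agent.S0927.result b O N (Euler.isFinLocFree_of_isInvertible hN) p
    exact ((Euler.tF N).map_isZero (isZero_Rpush_module hJ hb p hp)).of_iso
      (((Coh.Rpush b p).mapIso eG).symm ≪≫ e.symm ≪≫ (((OX.tensorBraiding (X := X)).app N).app _).symm)
  have hac : Cohom.AcyclicOn b.base X.affineOpens (Coh.toAb G) := fun W hW n => by
    refine BlowPt28.subsingleton_ext_restrict G (b ⁻¹ᵁ W) (n + 1) ?_
    obtain ⟨e, -⟩ := BCCoh.exists_Rpush_equiv (f := b) (V := W) (hV := hW) (M := G) (n + 1)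
    refine @Equiv.subsingleton _ _ e.toEquiv ?_
    refine subsingleton_of_forall_eq 0 fun t => ?_
    have h := (IsZero.iff_id_eq_zero _).1 (hz (n + 1) (by omega))
    simpa using ConcreteCategory.congr_hom (congrArg (fun φ : _ ⟶ _ => Scheme.Modules.Hom.app φ W) h) t
  obtain ⟨e1⟩ := RatSing29.nonempty_push_linearEquiv b hover.symm G hac i
  haveI := BlowCoh8.isIso_unitToPush hJ hb
  obtain ⟨e0⟩ := Groth.Agent.S0927.result b O N (Euler.isFinLocFree_of_isInvertible hN) 0
  let e : (Scheme.Modules.pushforward b).obj G ≅ N :=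
    ((Scheme.Modules.pushforward b).rightDerivedZeroIsoSelf.app G).symm ≪≫ ((Coh.Rpush b 0).mapIso eG).symm ≪≫
      e0.symm ≪≫ (((OX.tensorBraiding (X := X)).app N).app _).symm ≪≫
      (Euler.tF N).mapIso (((Scheme.Modules.pushforward b).rightDerivedZeroIsoSelf).app _ ≪≫
      (asIso (ClSub.unitToPush b)).symm) ≪≫ OX.tensorUnitLeftIso N
  exact ⟨e1.trans (Euler.hhEquiv (A := k) e i)⟩

end GrothLib.BlowPts12
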