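import Groth.Agent.Lib.BlowPts12.Uniform
import Groth.Agent.Lib.RelProjK.Local

/-!
# Twists of cokernels of matrices of linear forms by powers of the anticanonical module
-/

set_option autoImplicit false
set_option linter.all false
set_option backward.isDefEq.respectTransparency false
set_option maxHeartbeats 1000000

universe u

open CategoryTheory CategoryTheory.Limits AlgebraicGeometry TopologicalSpace
open GrothLib.Cube (Pic clsMod pull HasCls hasCls_clsMod)

noncomputable section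

namespace GrothLib.BlowPts12

theorem hasCls_of_iso {X : Scheme.{u}} {L L' : X.Modules} {x : Pic X} (h : HasCls L x) (e : L ≅ L') : HasCls L' x :=
  ⟨RelProjK.isInvertible_of_iso e.symm h.1, ((Cube.clsMod_eq_iff (RelProjK.isInvertible_of_iso e.symm h.1) h.1).2 ⟨e.symm⟩).trans h.2⟩

theorem subsingleton_sigma_of_hasCls {X : Scheme.{u}} {N L H T : X.Modules} {r i : ℕ} {x y z : Pic X}
    (e : N ≅ ∐ fun _ : Fin r => L) (hL : HasCls L x) (hH : HasCls H y) (hT : HasCls T z) (hz : x * y = z)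
    (h : Subsingleton (Coh.HH X T i)) : Subsingleton (Coh.HH X (CohB1.tensorMod N H) i) := by
  obtain ⟨g⟩ := (hL.tensor hH).iso hT hz
  refine CMReg.subsingleton_of_iso (Ample.LineData.tensorModMapIso e (Iso.refl _) ≪≫
    CMReg.tensorSigmaIso (fun _ : Fin r => L) H).symm ?_
  exact CMReg.subsingleton_HH_sigma _ fun _ => CMReg.subsingleton_of_iso g.symm h

theorem subsingleton_cokernel_tensor {X : Scheme.{u}} {P Q H : X.Modules} (f : P ⟶ Q) [Mono f]
    (hH : PicF.IsInvertible H) {i : ℕ} (hQ : Subsingleton (Coh.HH X (CohB1.tensorMod Q H) i))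
    (hP : Subsingleton (Coh.HH X (CohB1.tensorMod P H) (i + 1))) :
    Subsingleton (Coh.HH X (CohB1.tensorMod (cokernel f) H) i) := by
  let S := ShortComplex.mk f (cokernel.π f) (cokernel.condition f)
  have hS : S.ShortExact := { exact := ShortComplex.exact_of_g_is_cokernel _ (cokernelIsCokernel f) }
  have hT : (S.map (Euler.tF H)).ShortExact :=
    OX.tensor_map_shortExact (OX.flat_of_isFinLocFree (Euler.isFinLocFree_of_isInvertible hH)) hS
  exact CMReg.subsingleton_X₃ hT hQ hP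

variable {k : Type u} [Field k] [IsAlgClosed k] {n s : ℕ} {P : Fin s → ↥(CohB1.ProjSpace n k)}
  (hP : Function.Injective P) {hPc : ∀ t, IsClosed ({P t} : Set ↥(CohB1.ProjSpace n k))}
  (hZ : IsClosed (Set.range P)) {X : Scheme.{u}} {π : X ⟶ CohB1.ProjSpace n k}
  (hn : 3 ≤ n) (hs : s ≤ 1)
  (hπ : _root_.BlowUp.IsBlowUp π (Scheme.IdealSheafData.vanishingIdeal ⟨Set.range P, hZ⟩))

include hP hPc hn hs hπ in
theorem subsingleton_coker {a b : ℕ} {P₁ Q₁ : X.Modules}
    (eP : P₁ ≅ ∐ fun _ : Fin a => (Scheme.Modules.pullback π).obj (Twist.twistProjSpace n k (-2)))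
    (eQ : Q₁ ≅ ∐ fun _ : Fin b => (Scheme.Modules.pullback π).obj (Twist.twistProjSpace n k (-1)))
    (f : P₁ ⟶ Q₁) [Mono f] {Hm : X.Modules}
    (hH : HasCls Hm (pt π ((n : ℤ) + 1) * exc hZ hπ ^ (n - 1))) (i t : ℕ) (hi : 1 ≤ i) (hin : i + 1 ≤ n) :
    Subsingleton (Coh.HH X (CohB1.tensorMod (cokernel f) (CohB1.tensorPow Hm t)) i) := by
  have hS := isPts_range (n := n) (by omega) hPc hZ
  have hHt := hH.tensorPow t
  have hcls : ∀ e : ℤ, pt π e * (pt π ((n : ℤ) + 1) * exc hZ hπ ^ (n - 1)) ^ t =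
      pt π (e + (t : ℤ) * ((n : ℤ) + 1)) * exc hZ hπ ^ ((n - 1) * t) := fun e => by
    have hp : ∀ q : ℕ, pt π ((n : ℤ) + 1) ^ q = pt π ((q : ℤ) * ((n : ℤ) + 1)) := fun q => by
      induction q with
      | zero => rw [pow_zero, Nat.cast_zero, zero_mul, pt_zero]
      | succ q ih => rw [pow_succ, ih, pt_mul]; congr 1; push_cast; ring
    rw [mul_pow, hp, ← pow_mul, ← mul_assoc, pt_mul]
  have htn : ((n - 1) * t : ℕ) ≤ t * (n + 1) := by
    rw [mul_comm t]
    exact Nat.mul_le_mul_right t (by omega)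
  have hnn : (0 : ℤ) ≤ (t : ℤ) * ((n : ℤ) + 1) := by positivity
  refine subsingleton_cokernel_tensor f hHt.1
    (subsingleton_sigma_of_hasCls eQ (hasCls_pullTwist π (-1)) hHt (hasCls_tw' hZ (hPc := hPc) hπ hs _ _) (hcls (-1)) ?_)
    (subsingleton_sigma_of_hasCls eP (hasCls_pullTwist π (-2)) hHt (hasCls_tw' hZ (hPc := hPc) hπ hs _ _) (hcls (-2)) ?_)
  · rcases eq_or_lt_of_le hi with rfl | hi2
    · refine subsingleton_H1 hP hZ (by omega) hπ _ _ ?_
      rw [Finset.sum_const, Finset.card_univ, Fintype.card_fin, nsmul_eq_mul]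
      have hs' : (s : ℤ) ≤ 1 := by exact_mod_cast hs
      have h0 : (0 : ℤ) ≤ (((n - 1) * t : ℕ) : ℤ) := Int.natCast_nonneg _
      have h1 : (((n - 1) * t : ℕ) : ℤ) ≤ (t : ℤ) * ((n : ℤ) + 1) := by exact_mod_cast htn
      nlinarith
    · exact subsingleton_high π hS (isLocPow_fat hP hZ (by omega) _) hπ _ i hi2 (by omega)
  · exact subsingleton_high π hS (isLocPow_fat hP hZ (by omega) _) hπ _ (i + 1) (by omega)
      (by rintro ⟨-, h⟩; linarith [show (3 : ℤ) ≤ n by exact_mod_cast hn])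

end GrothLib.BlowPts12
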