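import Groth.Agent.Lib.BlowPts12.Exceptional
import Groth.Agent.Lib.BlowPts12.Coker
import Groth.Agent.Lib.SerreCor28.Stalk
import Groth.Agent.Lib.SerrePn27.AsympX
import Groth.Agent.Lib.PointDeg16.Main

/-!
# Crossing the exceptional divisor over a point
-/

set_option autoImplicit false
set_option linter.all false
set_option backward.isDefEq.respectTransparency false
set_option maxHeartbeats 1000000

universe u

open CategoryTheory CategoryTheory.Limits AlgebraicGeometry TopologicalSpace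
open GrothLib.Cube (Pic clsMod pull HasCls hasCls_clsMod)
open GrothLib.HodgeIndex (rep isInv_rep cls_rep)

noncomputable section

namespace GrothLib.BlowPts12

variable (k : Type u) [Field k] {n : ℕ} {X : Scheme.{u}} (π : X ⟶ CohB1.ProjSpace n k)

/-- The vanishing of the cohomology of a class. -/
def Van (v : Pic X) (q : ℕ) : Prop := Subsingleton (Coh.HH X (rep v) q)

theorem van_iff {L : X.Modules} {v : Pic X} (h : HasCls L v) (q : ℕ) : Van v q ↔ Subsingleton (Coh.HH X L q) := by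
  obtain ⟨e⟩ := (Quad12.hasCls_rep' v).iso h rfl
  exact ⟨fun hv => CMReg.subsingleton_of_iso e hv, fun hv => CMReg.subsingleton_of_iso e.symm hv⟩

theorem van_tensor {A B : X.Modules} {v w : Pic X} (hA : HasCls A v) (hB : HasCls B w) {q : ℕ} (h : Van (v * w) q) :
    Subsingleton (Coh.HH X (CohB1.tensorMod A B) q) :=
  (van_iff (hA.tensor hB) q).1 h

/-- Restriction of a divisor sequence. -/
theorem exists_div_seq {Y : Scheme.{u}} [X.Over (Spec (CommRingCat.of k))] [Y.Over (Spec (CommRingCat.of k))]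
    (i : Y ⟶ X) [IsClosedImmersion i] [i.IsOver (Spec (CommRingCat.of k))]
    {d : Pic X} (hd : HasCls (ClSub.idealMod i.ker) d) (v : Pic X) (q : ℕ) :
    (Van (v * d) q → Subsingleton (Coh.HH Y (rep (pull i v)) q) → Van v q) ∧
    (Van v (q + 1) → Subsingleton (Coh.HH Y (rep (pull i v)) q) → Van (v * d) (q + 1)) := by
  have hv := Quad12.hasCls_rep' v
  have hf := Euler.isFinLocFree_of_isInvertible hv.1
  have hT := OX.tensor_map_shortExact (OX.flat_of_isFinLocFree hf) (SerreCor28.idealSeq_shortExact i)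
  let S := (SerreCor28.idealSeq i).map ((DCoh.tensorBi (X := X)).flip.obj (rep v))
  obtain ⟨e1⟩ := (hd.tensor hv).iso (Quad12.hasCls_rep' (v * d)) (mul_comm d v)
  let e1' : S.X₁ ≅ rep (v * d) := e1
  let e2 : S.X₂ ≅ rep v := OX.tensorUnitLeftIso _
  obtain ⟨e3⟩ := CMReg.nonempty_tensorMod_push i (rep v) hf
  obtain ⟨e3'⟩ := ((Quad12.hasCls_rep' v).pullback i).iso (Quad12.hasCls_rep' (pull i v)) rfl
  let e3'' : S.X₃ ≅ (Scheme.Modules.pushforward i).obj (rep (pull i v)) :=
    e3 ≪≫ (Scheme.Modules.pushforward i).mapIso e3'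
  obtain ⟨g⟩ := SerrePn27.nonempty_HH_push_equiv (k := k) i (rep (pull i v)) q
  constructor
  · intro h1 h3
    haveI := h3
    refine CMReg.subsingleton_of_iso e2 (CMReg.subsingleton_X₂ hT (CMReg.subsingleton_of_iso e1'.symm h1) ?_)
    exact CMReg.subsingleton_of_iso e3''.symm g.symm.toEquiv.subsingleton
  · intro h2 h3
    haveI := h3
    refine CMReg.subsingleton_of_iso e1' (CMReg.subsingleton_X₁_succ hT ?_ (CMReg.subsingleton_of_iso e2.symm h2))
    exact CMReg.subsingleton_of_iso e3''.symm g.symm.toEquiv.subsingleton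

variable {k}

theorem pull_eq_one_of_subsingleton {T Y Z : Scheme.{u}} [Subsingleton T] [Nonempty T] (g : Y ⟶ T) (h : T ⟶ Z)
    (z : Pic Z) : pull (g ≫ h) z = 1 := by
  rw [← Cube.pull_comp]
  have h1 : pull h z = 1 := by
    obtain ⟨e⟩ := PointDeg16.nonempty_iso_of_subsingleton (isInv_rep (pull h z))
    rw [← cls_rep (pull h z)]
    exact (Cube.clsMod_eq_one_iff _).2 ⟨e⟩
  rw [h1, map_one]

/-- The exceptional divisor as a projective space. -/
theorem exists_exceptional_map [IsAlgClosed k] (p : ↥(CohB1.ProjSpace n k))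
    (hp : IsClosed ({p} : Set ↥(CohB1.ProjSpace n k))) (hn : 1 ≤ n)
    (hπ : _root_.BlowUp.IsBlowUp π (Scheme.IdealSheafData.vanishingIdeal ⟨{p}, hp⟩)) :
    ∃ (m : ℕ) (K : Type u) (_ : Field K) (φ : CohB1.ProjSpace m K ⟶ X), m + 1 = n ∧ IsClosedImmersion φ ∧
      φ.ker = _root_.BlowUp.exceptional π (Scheme.IdealSheafData.vanishingIdeal ⟨{p}, hp⟩) ∧
      pull φ (clsMod (IdealModSec.isInvertible_of_isEffCartier hπ.1)) = ProjPic26.tw m K 1 ∧
      ∀ c : ℤ, pull φ (pt π c) = 1 := by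
  obtain ⟨m, rfl⟩ : ∃ m, n = m + 1 := ⟨n - 1, by omega⟩
  letI : (CohB1.ProjSpace (m + 1) k).Over (Spec (CommRingCat.of k)) := ⟨CohB1.ProjSpace.toSpec (m + 1) k⟩
  haveI : IsProper (CohB1.ProjSpace (m + 1) k ↘ Spec (CommRingCat.of k)) := Chow.isProper_toSpec (m + 1) k
  haveI := Euler.isNoetherian_of_proper (X := CohB1.ProjSpace (m + 1) k) k
  haveI := DualTF27.isRegular_projSpace k (m + 1) p
  have hd : ringKrullDim ((CohB1.ProjSpace (m + 1) k).presheaf.stalk p) = ((m + 1 : ℕ) : WithBot ℕ∞) := by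
    have h := CodimExt27.ptDim_add_dim_stalk (CohB1.ProjSpace (m + 1) k ↘ Spec (CommRingCat.of k))
      (DualTF27.pure_projSpace k (m + 1)) p
    rwa [AffDom.ptDim_closedPoint hp, zero_add] at h
  obtain ⟨e, he, ⟨t⟩⟩ := exists_iso_point hp hd hπ
  refine ⟨m, _, inferInstance, e.hom ≫ (_root_.BlowUp.exceptional π
    (Scheme.IdealSheafData.vanishingIdeal ⟨{p}, hp⟩)).subschemeι, rfl, inferInstance, ?_, ?_, fun c => ?_⟩
  · rw [Scheme.Hom.ker_comp_of_isIso, Scheme.IdealSheafData.ker_subschemeι]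
  · rw [← Cube.clsMod_pullback _ (IdealModSec.isInvertible_of_isEffCartier hπ.1)]
    exact (Cube.clsMod_eq_iff _ _).2 ⟨t⟩
  · rw [pt, Cube.pull_comp, Category.assoc, he]
    haveI : Subsingleton (Spec ((CohB1.ProjSpace (m + 1) k).residueField p)) :=
      inferInstanceAs (Subsingleton (PrimeSpectrum ((CohB1.ProjSpace (m + 1) k).residueField p)))
    haveI : Nonempty (Spec ((CohB1.ProjSpace (m + 1) k).residueField p)) :=
      inferInstanceAs (Nonempty (PrimeSpectrum ((CohB1.ProjSpace (m + 1) k).residueField p)))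
    exact pull_eq_one_of_subsingleton _ _ _

/-- One step across the exceptional divisor. -/
theorem van_step [IsAlgClosed k] (p : ↥(CohB1.ProjSpace n k))
    (hp : IsClosed ({p} : Set ↥(CohB1.ProjSpace n k))) (hn : 1 ≤ n)
    (hπ : _root_.BlowUp.IsBlowUp π (Scheme.IdealSheafData.vanishingIdeal ⟨{p}, hp⟩)) (c z : ℤ) (q : ℕ)
    (h0 : ¬ (q = 0 ∧ 0 ≤ z)) (hq : ¬ (q + 1 = n ∧ z ≤ -(n : ℤ)))
    (h : Van (pt π c * clsMod (IdealModSec.isInvertible_of_isEffCartier hπ.1) ^ (z + 1)) q) :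
    Van (pt π c * clsMod (IdealModSec.isInvertible_of_isEffCartier hπ.1) ^ z) q := by
  obtain ⟨m, K, _, φ, hm, hφ, hker, hexc, hpt⟩ := exists_exceptional_map π p hp hn hπ
  haveI := hφ
  letI : X.Over (Spec (CommRingCat.of k)) := ⟨π ≫ CohB1.ProjSpace.toSpec n k⟩
  letI : (CohB1.ProjSpace m K).Over (Spec (CommRingCat.of k)) := ⟨φ ≫ X ↘ Spec (CommRingCat.of k)⟩
  haveI : φ.IsOver (Spec (CommRingCat.of k)) := ⟨rfl⟩
  set ε := clsMod (IdealModSec.isInvertible_of_isEffCartier hπ.1) with hε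
  have hd : HasCls (ClSub.idealMod φ.ker) ε := by rw [hker]; exact ⟨_, rfl⟩
  refine (exists_div_seq k φ hd _ q).1 ?_ ?_
  · rwa [mul_assoc, ← zpow_add_one]
  · rw [map_mul, map_zpow, hpt, one_mul, hexc, ← ProjPic26.tw_eq_zpow m K z]
    obtain ⟨e⟩ := (Quad12.hasCls_rep' (ProjPic26.tw m K z)).iso
      (hasCls_clsMod (ProjPic26.isInvertible_twistProjSpace m K z)) rfl
    exact CMReg.subsingleton_of_iso e.symm (ProjCohom.subsingleton_HH (R := K) (n := m) (d := z) (q := q) h0
      (by rintro ⟨a, b⟩; exact hq ⟨by omega, by omega⟩))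

end GrothLib.BlowPts12
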