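import Groth.Agent.Lib.BlowPts12.Steps
import Groth.Agent.Lib.DelPezzoH112.Main
import Groth.Agent.Lib.GGDesc10.Main
import Groth.Agent.Lib.UnifVanish7.Spanned
import Groth.Agent.Lib.OX.PullbackTensor

/-!
# The pull-back of a hyperplane minus the exceptional divisor is globally generated
-/

set_option autoImplicit false
set_option linter.all false
set_option backward.isDefEq.respectTransparency false
set_option maxHeartbeats 1000000

universe u

open CategoryTheory CategoryTheory.Limits AlgebraicGeometry TopologicalSpace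
open GrothLib.Cube (Pic clsMod pull HasCls hasCls_clsMod)
open GrothLib.OmegaBC (sval toStalk pullι)
open scoped TensorProduct

noncomputable section

namespace GrothLib.BlowPts12

/-- The inverse image of the module of an ideal maps onto the module of the inverse image ideal. -/
theorem exists_epi_pullback_idealMod {X Y : Scheme.{u}} {Z Z' : Scheme.{u}} (i : Z ⟶ Y) [QuasiCompact i]
    (i' : Z' ⟶ X) [QuasiCompact i'] (g : Z' ⟶ Z) (f : X ⟶ Y) (hk : i' ≫ f = g ≫ i)
    (hker : i'.ker = i.ker.comap f) :
    ∃ α : (Scheme.Modules.pullback f).obj (ClSub.idealMod i.ker) ⟶ ClSub.idealMod i'.ker, Epi α := by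
  let α := OmegaBC.pullIdeal i i' g f hk
  have hα : α ≫ ClSub.idealModι i'.ker = pullι f i.ker := kernel.lift_ι _ _ _
  have hs : ∀ x : X, Function.Surjective ((OX.stalk x).map α).hom := by
    intro x
    letI := (f.stalkMap x).hom.toAlgebra
    let T := (toStalk f (ClSub.idealMod i.ker) x ≫ (OX.stalk x).map α).hom
    obtain ⟨v, hvu, hv⟩ := OmegaBC.exists_unit_pullι f i.ker x
    have hT : ∀ n, ∃ t, sval i'.ker x (T t) = v * (f.stalkMap x) (sval i.ker (f x) n) := fun n => by
      refine ⟨(1 : X.presheaf.stalk x) ⊗ₜ[Y.presheaf.stalk (f x)] n, Eq.trans ?_ (hv n)⟩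
      rw [← hα, Functor.map_comp]
      rfl
    have hle : Goodman.st i'.ker x ≤ LinearMap.range ((sval i'.ker x).comp T) := by
      have hst : Goodman.st i'.ker x = (Goodman.st i.ker (f x)).map (f.stalkMap x).hom := by
        rw [hker, HodgeIndex.st_comap]
      rw [hst]
      refine Ideal.map_le_iff_le_comap.2 ?_
      rintro a ⟨n, rfl⟩
      obtain ⟨t, ht⟩ := hT n
      obtain ⟨w, hw⟩ := hvu.exists_left_inv
      refine ⟨w • t, ?_⟩
      rw [map_smul, LinearMap.comp_apply, ht, smul_eq_mul, ← mul_assoc, hw, one_mul]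
    intro z
    obtain ⟨t, ht⟩ := hle (show sval i'.ker x z ∈ Goodman.st i'.ker x from ⟨z, rfl⟩)
    exact ⟨(toStalk f (ClSub.idealMod i.ker) x).hom t, OmegaBC.sval_injective i'.ker x ht⟩
  exact ⟨α, (OX.epi_iff α).2 fun x => (ModuleCat.epi_iff_surjective _).2 (hs x)⟩

theorem isGloballyGenerated_of_epi {X : Scheme.{u}} {F G : X.Modules} (f : F ⟶ G) [Epi f]
    (h : Curv2.IsGloballyGenerated F) : Curv2.IsGloballyGenerated G := by
  obtain ⟨ι, p, hp⟩ := h
  haveI := hp
  exact ⟨ι, p ≫ f, epi_comp p f⟩

theorem gg_pullback_tensor {X Y : Scheme.{u}} (f : X ⟶ Y) {I T : Y.Modules} {J : X.Modules}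
    (α : (Scheme.Modules.pullback f).obj I ⟶ J) [Epi α] (h : Curv2.IsGloballyGenerated (CohB1.tensorMod I T)) :
    Curv2.IsGloballyGenerated (CohB1.tensorMod ((Scheme.Modules.pullback f).obj T) J) := by
  have h1 := Ample.isGloballyGenerated_of_iso (OX.pullTensorIso f I T) (GGDesc10.isGloballyGenerated_pullback f h)
  let F := Euler.tF ((Scheme.Modules.pullback f).obj T)
  haveI : Epi (F.map α) := inferInstance
  exact Ample.isGloballyGenerated_of_iso (GrTilde.tensorModComm J _) (isGloballyGenerated_of_epi (F.map α) h1)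

variable {k : Type u} [Field k] {n : ℕ} {s : ℕ} {P : Fin s → ↥(CohB1.ProjSpace n k)}
  {hPc : ∀ t, IsClosed ({P t} : Set ↥(CohB1.ProjSpace n k))}
  (hZ : IsClosed (Set.range P))

include hPc in
/-- The ideal of at most one closed point is spanned in degree one. -/
theorem spanned_points [IsAlgClosed k] (hs : s ≤ 1) :
    CMReg.Spanned (CMReg.Ft (ClSub.idealMod (Scheme.IdealSheafData.vanishingIdeal
      (⟨Set.range P, hZ⟩ : Closeds ↥(CohB1.ProjSpace n k)))) 1) := by
  set J := Scheme.IdealSheafData.vanishingIdeal (⟨Set.range P, hZ⟩ : Closeds ↥(CohB1.ProjSpace n k)) with hJ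
  letI : (CohB1.ProjSpace n k).Over (Spec (CommRingCat.of k)) := ⟨CohB1.ProjSpace.toSpec n k⟩
  haveI : IsProper (CohB1.ProjSpace n k ↘ Spec (CommRingCat.of k)) := Chow.isProper_toSpec n k
  haveI := Euler.isNoetherian_of_proper (X := CohB1.ProjSpace n k) k
  have hr : Set.range J.subschemeι = Set.range P := by
    rw [Scheme.IdealSheafData.range_subschemeι, hJ, Scheme.IdealSheafData.coe_support_vanishingIdeal]
    rfl
  have hinj : Function.Injective fun z : J.subscheme => J.subschemeι z := J.subschemeι.isClosedEmbedding.injective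
  haveI : Finite (Set.range P) := (Set.finite_range P).to_subtype
  let φ : J.subscheme → Set.range P := fun z => ⟨J.subschemeι z, hr ▸ Set.mem_range_self z⟩
  have hφ : Function.Injective φ := fun a b h => hinj (congrArg Subtype.val h :)
  haveI : Finite J.subscheme := Finite.of_injective φ hφ
  haveI : T1Space J.subscheme := ⟨fun z => by
    obtain ⟨t, ht⟩ := (hr ▸ Set.mem_range_self z : J.subschemeι z ∈ Set.range P)
    have h := (ht ▸ hPc t : IsClosed ({J.subschemeι z} : Set ↥(CohB1.ProjSpace n k))).preimage J.subschemeι.continuous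
    rwa [show J.subschemeι ⁻¹' {J.subschemeι z} = {z} from
      Set.ext fun w => ⟨fun hw => hinj hw, fun hw => by rw [hw]; rfl⟩] at h⟩
  haveI : DiscreteTopology J.subscheme := inferInstance
  haveI : IsReduced J.subscheme := RedSub.isReduced_subscheme_vanishingIdeal _
  have hreg := PtsReg5.regular_idealMod (n := n) (k := k) J.subscheme J.subschemeι (fun _ => 0) fun z => by
    rw [zero_add, pow_one]
    exact IsLocalRing.isField_iff_maximalIdeal_eq.1 (isField_stalk z)
  rw [Scheme.IdealSheafData.ker_subschemeι] at hreg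
  refine CMReg.spanned_of_regular (RegPow.isCoh_idealMod J) _ hreg 1 ?_
  have hcard : Nat.card J.subscheme ≤ 1 := by
    refine le_trans (Nat.card_le_card_of_injective φ hφ) (le_trans ?_ hs)
    exact le_trans (Finite.card_range_le P) (le_of_eq (Nat.card_fin s))
  simp only [Nat.cast_zero, finsum_zero, zero_add]
  exact_mod_cast hcard

variable {X : Scheme.{u}} {π : X ⟶ CohB1.ProjSpace n k}

include hPc in
/-- A hyperplane minus the exceptional divisor is globally generated. -/
theorem gg_one_exc [IsAlgClosed k] (hs : s ≤ 1)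
    (hπ : _root_.BlowUp.IsBlowUp π (Scheme.IdealSheafData.vanishingIdeal ⟨Set.range P, hZ⟩)) :
    ∃ M : X.Modules, HasCls M (pt π 1 * exc hZ hπ) ∧ Curv2.IsGloballyGenerated M := by
  let J := Scheme.IdealSheafData.vanishingIdeal (⟨Set.range P, hZ⟩ : Closeds ↥(CohB1.ProjSpace n k))
  refine ⟨CohB1.tensorMod ((Scheme.Modules.pullback π).obj (Twist.twistProjSpace n k 1))
    (ClSub.idealMod (_root_.BlowUp.exceptional π J)), (hasCls_pullTwist π 1).tensor (hasCls_exceptional hZ hπ), ?_⟩
  obtain ⟨g, hg⟩ : ∃ g : (J.comap π).subscheme ⟶ J.subscheme, g ≫ J.subschemeι = (J.comap π).subschemeι ≫ π :=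
    ⟨Scheme.IdealSheafData.subschemeMap (J.comap π) J π ((Scheme.IdealSheafData.map_gc π).le_u_l J),
      Scheme.IdealSheafData.subschemeMap_subschemeι _ _ _ _⟩
  obtain ⟨α, hα⟩ := exists_epi_pullback_idealMod J.subschemeι (J.comap π).subschemeι g π hg.symm
    (by rw [Scheme.IdealSheafData.ker_subschemeι, Scheme.IdealSheafData.ker_subschemeι])
  have key : ∀ (A : (CohB1.ProjSpace n k).IdealSheafData) (B : X.IdealSheafData)
      (β : (Scheme.Modules.pullback π).obj (ClSub.idealMod A) ⟶ ClSub.idealMod B) [Epi β],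
      A = J → B = J.comap π →
      Curv2.IsGloballyGenerated (CohB1.tensorMod ((Scheme.Modules.pullback π).obj (Twist.twistProjSpace n k 1))
        (ClSub.idealMod (J.comap π))) := by
    rintro _ _ β _ rfl rfl
    exact gg_pullback_tensor π β (Ample.isGloballyGenerated_of_local _ (spanned_points hZ (hPc := hPc) hs))
  haveI := hα
  exact key _ _ α (Scheme.IdealSheafData.ker_subschemeι J) (Scheme.IdealSheafData.ker_subschemeι _)

end GrothLib.BlowPts12
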