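import Groth.Agent.Lib.BlowPts12.Neg

/-!
# Kernels of matrices of linear forms on the blow-up in at most one point
-/

set_option autoImplicit false
set_option linter.all false
set_option backward.isDefEq.respectTransparency false
set_option maxHeartbeats 1000000

universe u

open CategoryTheory CategoryTheory.Limits AlgebraicGeometry TopologicalSpace
open GrothLib.Cube (Pic clsMod pull HasCls hasCls_clsMod)
open GrothLib.HodgeIndex (rep isInv_rep cls_rep)

noncomputable section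

namespace GrothLib.BlowPts12

theorem subsingleton_kernel_tensor {X : Scheme.{u}} {A B : X.Modules} (g : A ⟶ B) [Epi g] {v : Pic X} {q : ℕ}
    (hB : Subsingleton (Coh.HH X (CohB1.tensorMod B (rep v)) q))
    (hA : Subsingleton (Coh.HH X (CohB1.tensorMod A (rep v)) (q + 1))) :
    Subsingleton (Coh.HH X (CohB1.tensorMod (kernel g) (rep v)) (q + 1)) := by
  let S := ShortComplex.mk (kernel.ι g) g (kernel.condition g)
  have hS : S.ShortExact := { exact := ShortComplex.exact_of_f_is_kernel S (kernelIsKernel g) }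
  exact CMReg.subsingleton_X₁_succ
    (OX.tensor_map_shortExact (OX.flat_of_isFinLocFree (Euler.isFinLocFree_of_isInvertible (isInv_rep v))) hS) hB hA

theorem subsingleton_kernel_one (k : Type u) [Field k] {X : Scheme.{u}} [X.Over (Spec (CommRingCat.of k))]
    {A B : X.Modules} (g : A ⟶ B) [Epi g] (hA : Subsingleton (Coh.HH X A 1))
    (hg : Function.Surjective (Cohom.hhMap k g 0)) : Subsingleton (Coh.HH X (kernel g) 1) := by
  let S := ShortComplex.mk (kernel.ι g) g (kernel.condition g)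
  have hS : S.ShortExact := { exact := ShortComplex.exact_of_f_is_kernel S (kernelIsKernel g) }
  refine subsingleton_of_forall_eq 0 fun x => ?_
  obtain ⟨y, rfl⟩ := (Cohom.exact₁ (A := k) hS 0 x).1 (@Subsingleton.elim _ hA _ _)
  obtain ⟨v, rfl⟩ := hg y
  exact (Cohom.exact₃ (A := k) hS 0 _).2 ⟨v, rfl⟩

theorem tensor_one_iso {X : Scheme.{u}} (G : X.Modules) {v : Pic X} (hv : v = 1) :
    Nonempty (G ≅ CohB1.tensorMod G (rep v)) := by
  obtain ⟨g⟩ := (Cube.hasCls_structureModule X).iso (Quad12.hasCls_rep' v) hv.symm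
  exact ⟨(OX.tensorUnitLeftIso G).symm ≪≫ GrTilde.tensorModComm _ _ ≪≫
    Ample.LineData.tensorModMapIso (Iso.refl G) g⟩

variable {k : Type u} [Field k] {n : ℕ} {X : Scheme.{u}} {π : X ⟶ CohB1.ProjSpace n k}
  {s : ℕ} {P : Fin s → ↥(CohB1.ProjSpace n k)} (hP : Function.Injective P)
  {hPc : ∀ t, IsClosed ({P t} : Set ↥(CohB1.ProjSpace n k))}
  (hZ : IsClosed (Set.range P)) (hn : 3 ≤ n) (hs : s ≤ 1)
  (hπ : _root_.BlowUp.IsBlowUp π (Scheme.IdealSheafData.vanishingIdeal ⟨Set.range P, hZ⟩))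

theorem V_sigma {M : X.Modules} {r : ℕ} {d : ℤ}
    (e : M ≅ ∐ fun _ : Fin r => (Scheme.Modules.pullback π).obj (Twist.twistProjSpace n k d)) (c z : ℤ) (q : ℕ)
    (h : V hZ hπ (d + c) z q) :
    Subsingleton (Coh.HH X (CohB1.tensorMod M (rep (pt π c * exc hZ hπ ^ z))) q) :=
  subsingleton_sigma_of_hasCls e (hasCls_pullTwist π d) (Quad12.hasCls_rep' _) (Quad12.hasCls_rep' _)
    (by rw [← mul_assoc, pt_mul]) h

variable {a b : ℕ} {Q₂ P₂ : X.Modules}
  (eQ : Q₂ ≅ ∐ fun _ : Fin b => (Scheme.Modules.pullback π).obj (Twist.twistProjSpace n k 1))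
  (eP : P₂ ≅ ∐ fun _ : Fin a => (Scheme.Modules.pullback π).obj (Twist.twistProjSpace n k 2))
  (g : Q₂ ⟶ P₂) [Epi g]

/-- Vanishing of `H^q(G ⊗ L(c, z))`. -/
def W (hπ : _root_.BlowUp.IsBlowUp π (Scheme.IdealSheafData.vanishingIdeal ⟨Set.range P, hZ⟩)) (c z : ℤ) (q : ℕ) : Prop :=
  Subsingleton (Coh.HH X (CohB1.tensorMod (kernel g) (rep (pt π c * exc hZ hπ ^ z))) q)

include eQ eP in
theorem W_succ (c z : ℤ) (q : ℕ) (h2 : V hZ hπ (2 + c) z q) (h1 : V hZ hπ (1 + c) z (q + 1)) :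
    W hZ g hπ c z (q + 1) :=
  subsingleton_kernel_tensor g (V_sigma hZ hπ eP c z q h2) (V_sigma hZ hπ eQ c z (q + 1) h1)

include hP hPc hn hs eQ eP in
theorem W_one [IsAlgClosed k] [X.Over (Spec (CommRingCat.of k))] [CompactSpace X]
    (hg : Function.Surjective (Cohom.hhMap k g 0)) : ∀ (m c' : ℕ), W hZ g hπ ((c' + m : ℕ) : ℤ) (m : ℤ) 1 := by
  intro m
  induction m with
  | zero =>
    intro c
    induction c with
    | zero =>
      obtain ⟨e⟩ := tensor_one_iso (kernel g) (v := pt π ((0 + 0 : ℕ) : ℤ) * exc hZ hπ ^ ((0 : ℕ) : ℤ))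
        (by rw [Nat.cast_zero, pt_zero, zpow_zero, mul_one])
      refine CMReg.subsingleton_of_iso e (subsingleton_kernel_one k g ?_ hg)
      exact CMReg.subsingleton_of_iso eQ.symm (CMReg.subsingleton_HH_sigma _ fun _ =>
        subsingleton_pullTwist (isPts_range (by omega) hPc hZ) π hπ 1 1 (by omega) (by omega))
    | succ c ih =>
      refine van_raise (hasCls_pullTwist π 1) (GGDesc10.isGloballyGenerated_pullback π (DelPezzoH112.tw_one_gg n k))
        (kernel g) 1 fun w hw => ?_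
      have e : pt π ((c + 1 + 0 : ℕ) : ℤ) * exc hZ hπ ^ ((0 : ℕ) : ℤ) * pt π 1 ^ (-(w : ℤ)) =
          pt π ((c : ℤ) + 1 - w) * exc hZ hπ ^ (0 : ℤ) := by
        rw [← pt_eq_zpow, Nat.cast_zero, zpow_zero, mul_one, mul_one, pt_mul]
        congr 1
      rw [e]
      obtain ⟨u, rfl⟩ : ∃ u, w = u + 1 := ⟨w - 1, by omega⟩
      rw [show 1 + (u + 1) - 1 = u + 1 by omega]
      rcases Nat.eq_zero_or_pos u with rfl | hu
      · rw [show (c : ℤ) + 1 - ((0 + 1 : ℕ) : ℤ) = ((c + 0 : ℕ) : ℤ) by omega]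
        exact ih
      · exact W_succ hZ hπ eQ eP g _ _ u (V_zero hZ hn hs hπ (hPc := hPc) _ _ (by omega) (by omega))
          (V_zero hZ hn hs hπ (hPc := hPc) _ _ (by omega) (by omega))
  | succ m ih =>
    intro c
    obtain ⟨M, hM, hgg⟩ := gg_one_exc hZ (hPc := hPc) hs hπ
    refine van_raise hM hgg (kernel g) 1 fun w hw => ?_
    have e : pt π ((c + (m + 1) : ℕ) : ℤ) * exc hZ hπ ^ ((m + 1 : ℕ) : ℤ) * (pt π 1 * exc hZ hπ) ^ (-(w : ℤ)) =
        pt π ((c : ℤ) + m + 1 - w) * exc hZ hπ ^ ((m : ℤ) + 1 - w) := by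
      rw [mul_zpow, ← pt_eq_zpow, class_mul]
      congr 2 <;> omega
    rw [e]
    obtain ⟨u, rfl⟩ : ∃ u, w = u + 1 := ⟨w - 1, by omega⟩
    rw [show 1 + (u + 1) - 1 = u + 1 by omega]
    rcases Nat.eq_zero_or_pos u with rfl | hu
    · rw [show (c : ℤ) + m + 1 - ((0 + 1 : ℕ) : ℤ) = ((c + m : ℕ) : ℤ) by omega,
        show (m : ℤ) + 1 - ((0 + 1 : ℕ) : ℤ) = (m : ℤ) by omega]
      exact ih c
    · have key : ∀ (d : ℤ) (q : ℕ), 1 ≤ d → 1 ≤ q → u ≤ q → q ≤ u + 1 →
          V hZ hπ (d + ((c : ℤ) + m + 1 - ((u + 1 : ℕ) : ℤ))) ((m : ℤ) + 1 - ((u + 1 : ℕ) : ℤ)) q := by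
        intro d q hd hq1 hq hq'
        by_cases hum : u ≤ m
        · rw [show (m : ℤ) + 1 - ((u + 1 : ℕ) : ℤ) = ((m - u : ℕ) : ℤ) by omega]
          exact V_nonneg hP hZ hn hs hπ (hPc := hPc) _ _ q hq1 (fun _ => by omega) (by omega)
        · rw [show (m : ℤ) + 1 - ((u + 1 : ℕ) : ℤ) = -((u - m : ℕ) : ℤ) by omega]
          exact V_neg hZ hn hs hπ (hPc := hPc) _ _ q (by omega) (by omega) (by omega)
      exact W_succ hZ hπ eQ eP g _ _ u (key 2 u (by omega) (by omega) (by omega) (by omega))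
        (key 1 (u + 1) le_rfl (by omega) (by omega) le_rfl)

end GrothLib.BlowPts12
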