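import Groth.Agent.Lib.BlowPts12.ExcSeq
import Groth.Agent.Lib.CMReg.GenKoszul
import Groth.Agent.Lib.Semiample.Criterion

/-!
# Moving vanishing along a globally generated class
-/

set_option autoImplicit false
set_option linter.all false
set_option backward.isDefEq.respectTransparency false
set_option maxHeartbeats 1000000

universe u

open CategoryTheory CategoryTheory.Limits AlgebraicGeometry TopologicalSpace
open GrothLib.Cube (Pic clsMod pull HasCls hasCls_clsMod)
open GrothLib.HodgeIndex (rep isInv_rep cls_rep)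

noncomputable section

namespace GrothLib.BlowPts12

variable {X : Scheme.{u}}

/-- Generating sections of a globally generated invertible module. -/
theorem exists_covers [CompactSpace X] {L : X.Modules} (hL : PicF.IsInvertible L) (hgg : Curv2.IsGloballyGenerated L) :
    ∃ (c : Ample.Cocycle X) (_ : L ≅ c.twist 1) (a : ℕ → c.sect 1 ⊤) (r : ℕ), CMReg.Covers c a r := by
  obtain ⟨c, ⟨e⟩⟩ := Ample.exists_cocycle hL
  obtain ⟨n, a, ha⟩ := Semiample.exists_sections c (Ample.isGloballyGenerated_of_iso e hgg)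
  refine ⟨c, e, fun l => if h : l < n + 1 then a ⟨l, h⟩ else 0, n + 1, fun x => ?_⟩
  obtain ⟨i, hi⟩ := Opens.mem_iSup.1 (ha.ge (Opens.mem_top x))
  exact ⟨i, i.2, by dsimp only; rw [dif_pos i.2]; exact hi⟩

theorem kos_zero {c : Ample.Cocycle X} (a : ℕ → c.sect 1 ⊤) (M : X.Modules) :
    ∀ r, ((CMReg.kos c a r).K 0).obj M = M := by
  intro r
  induction r with
  | zero => rfl
  | succ r ih => exact ih

/-- No sections in a submodule. -/
theorem subsingleton_zero_of_mono (k : Type u) [Field k] [X.Over (Spec (CommRingCat.of k))] {M N : X.Modules}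
    (f : M ⟶ N) [Mono f] (h : Subsingleton (Coh.HH X N 0)) : Subsingleton (Coh.HH X M 0) := by
  haveI := h
  exact (NegTwist.injective_hhMap_zero k f).subsingleton

section lower

variable (k : Type u) [Field k] [X.Over (Spec (CommRingCat.of k))] {c : Ample.Cocycle X} {a : ℕ → c.sect 1 ⊤}
  {r : ℕ} (hc : CMReg.Covers c a r) (M : X.Modules)

include k hc in
theorem subsingleton_cyc_of_upper : ∀ (i j : ℕ),
    (∀ s, j ≤ s → s ≤ i + j → Subsingleton (Coh.HH X ((CMReg.twPow c s).obj M) (i + j - s))) →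
      Subsingleton (Coh.HH X (CMReg.cyc c a r M j) i) := by
  intro i
  induction i with
  | zero =>
    intro j h
    have h1 := h j le_rfl (by omega)
    rw [show 0 + j - j = 0 by omega] at h1
    exact subsingleton_zero_of_mono k (kernel.ι _) (CMReg.subsingleton_kos c a r j M 0 h1)
  | succ i ih =>
    intro j h
    have h1 := h j le_rfl (by omega)
    rw [show i + 1 + j - j = i + 1 by omega] at h1
    refine CMReg.subsingleton_X₁_succ (CMReg.shortExact_cycSeq hc M j) (ih (j + 1) fun s hs hs' => ?_)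
      (CMReg.subsingleton_kos c a r j M (i + 1) h1)
    have h2 := h s (by omega) (by omega)
    rwa [show i + (j + 1) - s = i + 1 + j - s by omega]

include k hc in
theorem subsingleton_of_upper (i : ℕ)
    (h : ∀ s, 1 ≤ s → s ≤ i + 1 → Subsingleton (Coh.HH X ((CMReg.twPow c s).obj M) (i + 1 - s))) :
    Subsingleton (Coh.HH X M i) := by
  have h0 : Subsingleton (Coh.HH X (((CMReg.kos c a r).K 0).obj M) i) :=
    CMReg.subsingleton_X₂ (CMReg.shortExact_cycSeq hc M 0)
      (Cohom.subsingleton_HH_of_isZero (CMReg.isZero_cyc_zero hc M) i) (subsingleton_cyc_of_upper k hc M i 1 h)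
  rwa [kos_zero] at h0

end lower

variable (k : Type u) [Field k] [X.Over (Spec (CommRingCat.of k))] [CompactSpace X] {L : X.Modules} {l : Pic X}
  (hL : HasCls L l) (hgg : Curv2.IsGloballyGenerated L)

include k hL hgg in
/-- Vanishing descends from higher twists in lower degrees. -/
theorem van_lower {v : Pic X} (i : ℕ) (h : ∀ s : ℕ, 1 ≤ s → s ≤ i + 1 → Van (v * l ^ s) (i + 1 - s)) : Van v i := by
  obtain ⟨c, e, a, r, hc⟩ := exists_covers hL.1 hgg
  refine subsingleton_of_upper k hc (rep v) i fun s hs hs' => ?_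
  obtain ⟨g⟩ := CMReg.nonempty_twPow_tensor c e s (rep v)
  exact CMReg.subsingleton_of_iso g.symm (van_tensor (Quad12.hasCls_rep' v) (hL.tensorPow s) (h s hs hs'))

include hL hgg in
/-- Vanishing ascends from lower twists in higher degrees. -/
theorem van_raise (G : X.Modules) {v : Pic X} (q : ℕ)
    (h : ∀ w : ℕ, 1 ≤ w → Subsingleton (Coh.HH X (CohB1.tensorMod G (rep (v * l ^ (-(w : ℤ))))) (q + w - 1))) :
    Subsingleton (Coh.HH X (CohB1.tensorMod G (rep v)) q) := by
  obtain ⟨c, e, a, r, hc⟩ := exists_covers hL.1 hgg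
  let z := v * l ^ (-(r : ℤ))
  have key : ∀ s : ℕ, Nonempty ((CMReg.twPow c s).obj (CohB1.tensorMod G (rep z)) ≅
      CohB1.tensorMod G (rep (z * l ^ s))) := fun s => by
    obtain ⟨g⟩ := CMReg.nonempty_twPow_tensor c e s (CohB1.tensorMod G (rep z))
    obtain ⟨g'⟩ := ((Quad12.hasCls_rep' z).tensor (hL.tensorPow s)).iso (Quad12.hasCls_rep' (z * l ^ s)) rfl
    exact ⟨g ≪≫ OX.tensorAssoc G (rep z) _ ≪≫ Ample.LineData.tensorModMapIso (Iso.refl G) g'⟩
  obtain ⟨g⟩ := key r
  have hv : z * l ^ r = v := by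
    show v * l ^ (-(r : ℤ)) * l ^ r = v
    rw [zpow_neg, zpow_natCast, inv_mul_cancel_right]
  rw [← hv]
  refine CMReg.subsingleton_of_iso g (CMReg.subsingleton_twPow hc _ fun s hs => ?_)
  obtain ⟨g'⟩ := key s
  refine CMReg.subsingleton_of_iso g'.symm ?_
  have h1 := h (r - s) (by omega)
  have he : v * l ^ (-((r - s : ℕ) : ℤ)) = z * l ^ s := by
    show _ = v * l ^ (-(r : ℤ)) * l ^ s
    rw [mul_assoc, ← zpow_natCast l s, ← zpow_add]
    congr 2
    omega
  rw [he, show q + (r - s) - 1 = q + (r - 1 - s) by omega] at h1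
  exact h1

end GrothLib.BlowPts12
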