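import Groth.Agent.Lib.BlowPts12.Gen

/-!
# Negative classes on the blow-up in at most one point have no cohomology below the top degree
-/

set_option autoImplicit false
set_option linter.all false
set_option backward.isDefEq.respectTransparency false
set_option maxHeartbeats 1000000

universe u

open CategoryTheory CategoryTheory.Limits AlgebraicGeometry TopologicalSpace
open GrothLib.Cube (Pic clsMod pull HasCls hasCls_clsMod)
open GrothLib.HodgeIndex (rep isInv_rep cls_rep)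

noncomputable section

namespace GrothLib.BlowPts12

variable {k : Type u} [Field k] {n : ℕ} {X : Scheme.{u}} {π : X ⟶ CohB1.ProjSpace n k}

theorem pt_eq_zpow (c : ℤ) : pt π c = pt π 1 ^ c := by
  rw [pt, pt, ProjPic26.tw_eq_zpow, map_zpow]

theorem class_mul (e : Pic X) (c z c' z' : ℤ) :
    (pt π c * e ^ z) * (pt π c' * e ^ z') = pt π (c + c') * e ^ (z + z') := by
  rw [mul_mul_mul_comm, pt_mul, ← zpow_add]

theorem class_pow (e : Pic X) (c z : ℤ) (t : ℕ) :
    (pt π c * e ^ z) ^ t = pt π ((t : ℤ) * c) * e ^ ((t : ℤ) * z) := by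
  induction t with
  | zero => rw [pow_zero, Nat.cast_zero, zero_mul, zero_mul, zpow_zero, mul_one, pt_zero]
  | succ t ih =>
    rw [pow_succ, ih, class_mul]
    congr 2 <;> push_cast <;> ring

theorem class_inv (e : Pic X) (c z : ℤ) : (pt π c * e ^ z)⁻¹ = pt π (-c) * e ^ (-z) :=
  inv_eq_of_mul_eq_one_left (by rw [class_mul, neg_add_cancel, neg_add_cancel, zpow_zero, mul_one, pt_zero])

variable {s : ℕ} {P : Fin s → ↥(CohB1.ProjSpace n k)} {hPc : ∀ t, IsClosed ({P t} : Set ↥(CohB1.ProjSpace n k))}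
  (hZ : IsClosed (Set.range P)) (hn : 3 ≤ n) (hs : s ≤ 1)
  (hπ : _root_.BlowUp.IsBlowUp π (Scheme.IdealSheafData.vanishingIdeal ⟨Set.range P, hZ⟩))

include hPc hn hs hπ in
/-- Cohomology of a negative class below the top degree. -/
theorem V_negative [IsAlgClosed k] : ∀ (j : ℕ) (c : ℤ) (i : ℕ), c + (j : ℤ) < 0 → i + 1 ≤ n →
    V hZ hπ c (-(j : ℤ)) i := by
  intro j
  induction j using Nat.strong_induction_on with
  | _ j ih =>
    intro c i hcj hi
    by_cases hjn : j + 1 ≤ n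
    · exact V_neg hZ hn hs hπ (hPc := hPc) c j i (Or.inl hjn) (by omega) (by omega)
    letI : X.Over (Spec (CommRingCat.of k)) := ⟨π ≫ CohB1.ProjSpace.toSpec n k⟩
    haveI : IsProper (X ↘ Spec (CommRingCat.of k)) := isProper_toSpec (isPts_range (by omega) hPc hZ) π hπ
    haveI := Euler.isNoetherian_of_proper (X := X) k
    obtain ⟨M, hM, hgg⟩ := gg_one_exc hZ (hPc := hPc) hs hπ
    refine van_lower k hM hgg i fun w hw hw' => ?_
    have h := ih (j - w) (by omega) (c + w) (i + 1 - w) (by omega) (by omega)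
    unfold V at h
    have e : pt π c * exc hZ hπ ^ (-(j : ℤ)) * (pt π 1 * exc hZ hπ) ^ w =
        pt π (c + w) * exc hZ hπ ^ (-((j - w : ℕ) : ℤ)) := by
      have h1 := class_pow (π := π) (exc hZ hπ) 1 1 w
      rw [zpow_one] at h1
      rw [h1, class_mul]
      congr 2 <;> omega
    rw [e]
    exact h

include hPc hn hs hπ in
/-- The classes of the powers of the anticanonical module and of its inverse. -/
theorem hasCls_anticanonical [IsAlgClosed k] {Hm Hi : X.Modules}
    (hHm : Nonempty (Hm ≅ CohB1.tensorMod ((Scheme.Modules.pullback π).obj (Twist.twistProjSpace n k ((n : ℤ) + 1)))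
      (CohB1.tensorPow (ClSub.idealMod (_root_.BlowUp.exceptional π (Scheme.IdealSheafData.vanishingIdeal ⟨Set.range P, hZ⟩))) (n - 1))))
    (hHi : ClSub.IsInverseOf Hi Hm) (t : ℕ) :
    HasCls (CohB1.tensorPow Hm t) (pt π ((t : ℤ) * ((n : ℤ) + 1)) * exc hZ hπ ^ ((t : ℤ) * ((n : ℤ) - 1))) ∧
      HasCls (CohB1.tensorPow Hi t)
        (pt π (-((t : ℤ) * ((n : ℤ) + 1))) * exc hZ hπ ^ (-((t : ℤ) * ((n : ℤ) - 1)))) := by
  obtain ⟨e⟩ := hHm
  have hm : HasCls Hm (pt π ((n : ℤ) + 1) * exc hZ hπ ^ ((n : ℤ) - 1)) := by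
    rw [show ((n : ℤ) - 1) = ((n - 1 : ℕ) : ℤ) by omega, zpow_natCast]
    exact hasCls_of_iso ((hasCls_pullTwist π _).tensor ((hasCls_exceptional hZ hπ).tensorPow (n - 1))) e.symm
  obtain ⟨hi, hcls⟩ := NefGrowth.cls_inverse hm.1 hHi
  have hi' : HasCls Hi (pt π ((n : ℤ) + 1) * exc hZ hπ ^ ((n : ℤ) - 1))⁻¹ :=
    ⟨hi, by rw [eq_inv_of_mul_eq_one_left hcls, hm.2]⟩
  refine ⟨?_, ?_⟩
  · rw [← class_pow]
    exact hm.tensorPow t
  · rw [← class_inv, ← class_pow, ← inv_pow]
    exact hi'.tensorPow t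

end GrothLib.BlowPts12
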