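import Groth.Agent.Lib.BlowPts12.Vanish
import Groth.Agent.Lib.ArSurf29.Multiple
import Groth.Agent.Lib.ArSurf29.Inter
import Groth.Agent.Lib.PointIdeal16.Main

/-!
# Fat points on projective space and their inverse images on the blow-up
-/

set_option autoImplicit false
set_option linter.all false
set_option backward.isDefEq.respectTransparency false
set_option maxHeartbeats 1000000

universe u

open CategoryTheory CategoryTheory.Limits AlgebraicGeometry TopologicalSpace
open GrothLib.QCoh (stalkLin)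
open GrothLib.Cube (Pic clsMod pull HasCls hasCls_clsMod)

noncomputable section

namespace GrothLib.BlowPts12

section general

variable {X : Scheme.{u}}

/-- Two vanishing ideals agree on an affine open on which the closed sets agree. -/
theorem vanishingIdeal_ideal_congr {Z Z' : Closeds X} (U : X.affineOpens)
    (h : ∀ y ∈ U.1, (y ∈ Z ↔ y ∈ Z')) :
    (Scheme.IdealSheafData.vanishingIdeal Z).ideal U = (Scheme.IdealSheafData.vanishingIdeal Z').ideal U := by
  rw [Scheme.IdealSheafData.vanishingIdeal_ideal, Scheme.IdealSheafData.vanishingIdeal_ideal]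
  congr 1
  ext q
  have hq : U.2.fromSpec q ∈ U.1 := by
    rw [← SetLike.mem_coe, ← U.2.range_fromSpec]
    exact ⟨q, rfl⟩
  exact h _ hq

theorem ideal_prod {ι : Type*} (s : Finset ι) (I : ι → X.IdealSheafData) (U : X.affineOpens) :
    (∏ i ∈ s, I i).ideal U = ∏ i ∈ s, (I i).ideal U := by
  classical
  induction s using Finset.induction with
  | empty =>
    rw [Finset.prod_empty, Finset.prod_empty, Scheme.IdealSheafData.one_eq_top, Scheme.IdealSheafData.ideal_top,
      Pi.top_apply, Ideal.one_eq_top]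
  | insert j s hj ih =>
    rw [Finset.prod_insert hj, Finset.prod_insert hj, Scheme.IdealSheafData.ideal_mul, Pi.mul_apply, ih]

end general

variable (k : Type u) [Field k] {n s : ℕ} (P : Fin s → ↥(CohB1.ProjSpace n k))
  (hP : Function.Injective P) (hPc : ∀ t, IsClosed ({P t} : Set ↥(CohB1.ProjSpace n k)))
  (hZ : IsClosed (Set.range P))

/-- The ideal of fat points. -/
def fat (d : Fin s → ℕ) : (CohB1.ProjSpace n k).IdealSheafData :=
  ∏ t, Scheme.IdealSheafData.vanishingIdeal ⟨{P t}, hPc t⟩ ^ d t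

variable {k P hPc}

include hP in
theorem isLocPow_fat (hn : 1 ≤ n) (d : Fin s → ℕ) :
    IsLocPow k (⟨Set.range P, hZ⟩ : Closeds ↥(CohB1.ProjSpace n k)) (fat k P hPc d) := by
  classical
  intro x
  have hclosed : IsClosed (Set.range P \ {x}) := by
    have hsf : (Set.range P \ {x}).Finite := (Set.finite_range P).subset Set.sdiff_subset
    have e : Set.range P \ {x} = ⋃ y ∈ Set.range P \ {x}, ({y} : Set ↥(CohB1.ProjSpace n k)) :=
      (Set.biUnion_of_singleton _).symm
    rw [e]
    exact hsf.isClosed_biUnion fun y hy => by obtain ⟨t, rfl⟩ := hy.1; exact hPc t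
  obtain ⟨U, hxU, hUW, r, a, ha, hJ⟩ := (isLocSeq_pts (isPts_range hn hPc hZ)).basis x
    (W := ⟨(Set.range P \ {x})ᶜ, hclosed.isOpen_compl⟩) (fun h => h.2 rfl)
  refine ⟨U, hxU, r, a, ha, hJ, ?_⟩
  have hU : ∀ y ∈ U.1, y ∈ Set.range P → y = x := fun y hy hr => by
    by_contra hne
    exact hUW hy ⟨hr, hne⟩
  have htop : ∀ t, P t ≠ x → (Scheme.IdealSheafData.vanishingIdeal ⟨{P t}, hPc t⟩).ideal U = ⊤ := fun t ht => by
    rw [vanishingIdeal_ideal_congr (Z' := ⊥) U fun y hy =>
      ⟨fun h => (ht (by rw [← show y = P t from h]; exact hU y hy ⟨t, h.symm⟩)).elim, fun h => h.elim⟩,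
      Scheme.IdealSheafData.vanishingIdeal_bot, Scheme.IdealSheafData.ideal_top, Pi.top_apply]
  rw [fat, ideal_prod]
  simp only [Scheme.IdealSheafData.ideal_pow, Pi.pow_apply]
  by_cases h : ∃ t, P t = x
  · obtain ⟨t₀, rfl⟩ := h
    refine ⟨d t₀, ?_⟩
    rw [Finset.prod_eq_single t₀ (fun t _ ht => by rw [htop t (hP.ne ht), ← Ideal.one_eq_top, one_pow])
      (fun h => (h (Finset.mem_univ _)).elim), vanishingIdeal_ideal_congr (Z := (⟨{P t₀}, hPc t₀⟩ : Closeds ↥(CohB1.ProjSpace n k))) (Z' := ⟨Set.range P, hZ⟩) U fun y hy =>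
      ⟨fun (h : y = P t₀) => ⟨t₀, h.symm⟩, fun h => hU y hy h⟩]
  · refine ⟨0, ?_⟩
    rw [pow_zero]
    exact Finset.prod_eq_one fun t _ => by rw [htop t fun e => h ⟨t, e⟩, ← Ideal.one_eq_top, one_pow]

variable {X : Scheme.{u}} {π : X ⟶ CohB1.ProjSpace n k}

/-- The inverse image of a local power of the centre is effective Cartier. -/
theorem isEffCartier_comap {S : Closeds ↥(CohB1.ProjSpace n k)} {𝔞 : (CohB1.ProjSpace n k).IdealSheafData}
    (h𝔞 : IsLocPow k S 𝔞) (hπ : _root_.BlowUp.IsBlowUp π (Scheme.IdealSheafData.vanishingIdeal S)) :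
    _root_.BlowUp.IsEffCartierIdeal (𝔞.comap π) := fun y => by
  obtain ⟨U, hyU, -, -, -, -, m, hm⟩ := h𝔞 (π y)
  obtain ⟨W, hyW, b, hb, hW⟩ := hπ.1 y
  obtain ⟨g, hg, hyg⟩ := W.2.exists_basicOpen_le (V := π ⁻¹ᵁ U.1) ⟨y, hyU⟩ hyW
  let V : X.affineOpens := ⟨X.basicOpen g, W.2.basicOpen g⟩
  let ρ := (X.presheaf.map (homOfLE (X.basicOpen_le g)).op).hom
  have hV : ((Scheme.IdealSheafData.vanishingIdeal S).comap π).ideal V = Ideal.span {ρ b} := by
    rw [← ((Scheme.IdealSheafData.vanishingIdeal S).comap π).map_ideal (U := V) (V := W) (X.basicOpen_le g), hW,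
      Ideal.map_span, Set.image_singleton]
    rfl
  refine ⟨V, hyg, ρ b ^ m, pow_mem ?_ m, ?_⟩
  · haveI := W.2.isLocalization_basicOpen g
    exact IsLocalization.map_nonZeroDivisors_le (Submonoid.powers g) Γ(X, V.1) ⟨b, hb, rfl⟩
  · rw [BlowUp.ideal_comap_eq_map 𝔞 π U V hg, hm, Ideal.map_pow, ← BlowUp.ideal_comap_eq_map _ π U V hg, hV,
      Ideal.span_singleton_pow]

variable (hn : 1 ≤ n) (hπ : _root_.BlowUp.IsBlowUp π (Scheme.IdealSheafData.vanishingIdeal ⟨Set.range P, hZ⟩))

include hP hn hπ in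
theorem isEffCartier_comap_pt (t : Fin s) :
    _root_.BlowUp.IsEffCartierIdeal ((Scheme.IdealSheafData.vanishingIdeal ⟨{P t}, hPc t⟩).comap π) := by
  classical
  have h := isEffCartier_comap (isLocPow_fat hP hZ hn (hPc := hPc) (Pi.single t 1)) hπ
  rwa [fat, Finset.prod_eq_single t (fun t' _ ht => by rw [Pi.single_eq_of_ne ht, pow_zero])
    (fun h => (h (Finset.mem_univ _)).elim), Pi.single_eq_same, pow_one] at h

include hP hn hπ in
/-- The module of the inverse image of fat points. -/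
theorem nonempty_multiTwist_iso (d : Fin s → ℕ) :
    Nonempty (FGA.multiTwist (fun t : Fin s =>
        ClSub.idealMod ((Scheme.IdealSheafData.vanishingIdeal ⟨{P t}, hPc t⟩).comap π)) d ≅
      ClSub.idealMod ((fat k P hPc d).comap π)) := by
  have hE := fun t => isEffCartier_comap_pt hP hZ (hPc := hPc) hn hπ t
  obtain ⟨h₁, c₁⟩ := ArSurf29.cls_multiTwist (fun t => IdealModSec.isInvertible_of_isEffCartier (hE t)) d
  choose hp cp using fun t => ArSurf29.cls_idealMod_pow (hE t) (d t)
  obtain ⟨h₂, c₂⟩ := ArSurf29.cls_idealMod_prod Finset.univ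
    (fun t => (Scheme.IdealSheafData.vanishingIdeal ⟨{P t}, hPc t⟩).comap π ^ d t) hp
  have e : (fat k P hPc d).comap π =
      ∏ t, (Scheme.IdealSheafData.vanishingIdeal ⟨{P t}, hPc t⟩).comap π ^ d t := by
    let φ : (CohB1.ProjSpace n k).IdealSheafData →* X.IdealSheafData :=
      { toFun := fun K => K.comap π
        map_one' := Scheme.IdealSheafData.comap_top _
        map_mul' := fun A B => BlowUp.comap_mul A B π }
    show φ _ = _
    rw [fat, map_prod]
    simp only [map_pow]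
    rfl
  rw [e]
  exact (Cube.clsMod_eq_iff h₁ h₂).1 (by rw [c₁, c₂]; exact Finset.prod_congr rfl fun t _ => (cp t).symm)

/-- The twist `O(c e₀ - Σ d_t e_t)`. -/
abbrev tw' (π : X ⟶ CohB1.ProjSpace n k) (c : ℤ) (d : Fin s → ℕ) : X.Modules :=
  CohB1.tensorMod ((Scheme.Modules.pullback π).obj (Twist.twistProjSpace n k c))
    (ClSub.idealMod ((fat k P hPc d).comap π))

include hP hn hπ in
theorem nonempty_tw_iso (c : ℤ) (d : Fin s → ℕ) :
    Nonempty (CohB1.tensorMod ((Scheme.Modules.pullback π).obj (Twist.twistProjSpace n k c))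
      (FGA.multiTwist (fun t : Fin s =>
        ClSub.idealMod ((Scheme.IdealSheafData.vanishingIdeal ⟨{P t}, hPc t⟩).comap π)) d) ≅ tw' (hPc := hPc) π c d) := by
  obtain ⟨e⟩ := nonempty_multiTwist_iso hP hZ (hPc := hPc) hn hπ d
  exact ⟨Ample.LineData.tensorModMapIso (Iso.refl _) e⟩

include hP hn hπ in
/-- `H^1 = 0` from the total multiplicity. -/
theorem subsingleton_H1 [IsAlgClosed k] (c : ℤ) (d : Fin s → ℕ) (hc : (∑ t, (d t : ℤ)) ≤ c + 1) :
    Subsingleton (Coh.HH X (tw' (hPc := hPc) π c d) 1) := by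
  classical
  let L : List ↥(CohB1.ProjSpace n k) := (List.finRange s).flatMap fun t => List.replicate (d t) (P t)
  have hlen : (L.length : ℤ) = ∑ t, (d t : ℤ) := by
    rw [List.length_flatMap, Fin.sum_univ_def]
    simp [List.length_replicate, Function.comp_def]
  obtain ⟨F, ι, hι, hF, hreg, hpow, hsurj⟩ := PtsReg5.exists_ideal (n := n) (k := k) L fun p hp => by
    obtain ⟨t, -, ht⟩ := List.mem_flatMap.1 hp
    rw [(List.mem_replicate.1 ht).2]
    exact hPc t
  have hmemL : ∀ x, x ∈ L → x ∈ Set.range P := fun x hx => by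
    obtain ⟨t, -, ht⟩ := List.mem_flatMap.1 hx
    exact ⟨t, (List.mem_replicate.1 ht).2.symm⟩
  refine subsingleton_one π (isPts_range hn hPc hZ) (isLocPow_fat hP hZ hn (hPc := hPc) d) hπ ι hF _ hreg
    (fun x => ?_) (fun x hx => hsurj x fun h => hx (hmemL x h)) c (by rw [hlen]; linarith)
  rw [HodgeIndex.range_idealModι]
  rintro w ⟨v, rfl⟩
  by_cases h : ∃ t, P t = x
  · obtain ⟨t₀, rfl⟩ := h
    have hst : Goodman.st (fat k P hPc d) (P t₀) =
        IsLocalRing.maximalIdeal ((CohB1.ProjSpace n k).presheaf.stalk (P t₀)) ^ d t₀ := by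
      rw [fat, Goodman.st_prod, Finset.prod_eq_single t₀ (fun t _ ht => by
        rw [Goodman.st_pow, Goodman.st_of_notMem _ (by
          rw [Scheme.IdealSheafData.coe_support_vanishingIdeal]
          exact fun h => ht (hP h).symm), ← Ideal.one_eq_top, one_pow])
        (fun h => (h (Finset.mem_univ _)).elim), Goodman.st_pow, PointIdeal16.st_ptI (hPc t₀)]
    rw [hst]
    refine Submodule.smul_induction_on (p := fun w => w ∈ Submodule.map _ _)
      (hpow (P t₀) (d t₀) ?_ v) (fun r hr w _ => ?_) (fun a b ha hb => add_mem ha hb)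
    · exact List.sublist_flatten_of_mem (List.mem_map_of_mem (List.mem_finRange t₀))
    · obtain ⟨b, rfl⟩ := (HomSh.unitStalk (P t₀)).surjective w
      exact ⟨r * b, Ideal.mul_mem_right _ _ hr, by
        show HomSh.unitStalk _ (r * b) = _
        rw [← smul_eq_mul, map_smul]⟩
  · rw [st_eq_top_of_notMem (isLocPow_fat hP hZ hn (hPc := hPc) d) fun ⟨t, ht⟩ => h ⟨t, ht⟩]
    exact ⟨(HomSh.unitStalk x).symm _, trivial, (HomSh.unitStalk x).apply_symm_apply _⟩

end GrothLib.BlowPts12
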