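import Groth.Agent.Lib.BlowPts12.Kos

/-!
# Vanishing for the classes `c e₀ + z ε` on the blow-up in at most one point
-/

set_option autoImplicit false
set_option linter.all false
set_option backward.isDefEq.respectTransparency false
set_option maxHeartbeats 1000000

universe u

open CategoryTheory CategoryTheory.Limits AlgebraicGeometry TopologicalSpace
open GrothLib.Cube (Pic clsMod pull HasCls hasCls_clsMod)
open GrothLib.HodgeIndex (rep isInv_rep cls_rep)

noncomputable section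

namespace GrothLib.BlowPts12

variable {k : Type u} [Field k] {n : ℕ} {X : Scheme.{u}} {π : X ⟶ CohB1.ProjSpace n k}

theorem clsMod_exceptional_congr {S T : Closeds ↥(CohB1.ProjSpace n k)} (e : S = T)
    (h₁ : PicF.IsInvertible (ClSub.idealMod (_root_.BlowUp.exceptional π (Scheme.IdealSheafData.vanishingIdeal S))))
    (h₂ : PicF.IsInvertible (ClSub.idealMod (_root_.BlowUp.exceptional π (Scheme.IdealSheafData.vanishingIdeal T)))) :
    clsMod h₁ = clsMod h₂ := by
  subst e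
  rfl

variable {s : ℕ} {P : Fin s → ↥(CohB1.ProjSpace n k)} (hP : Function.Injective P)
  {hPc : ∀ t, IsClosed ({P t} : Set ↥(CohB1.ProjSpace n k))}
  (hZ : IsClosed (Set.range P)) (hn : 3 ≤ n) (hs : s ≤ 1)
  (hπ : _root_.BlowUp.IsBlowUp π (Scheme.IdealSheafData.vanishingIdeal ⟨Set.range P, hZ⟩))

/-- The vanishing of `H^q(c e₀ + z ε)`. -/
def V (hπ : _root_.BlowUp.IsBlowUp π (Scheme.IdealSheafData.vanishingIdeal ⟨Set.range P, hZ⟩)) (c z : ℤ) (q : ℕ) : Prop :=
  Van (pt π c * exc hZ hπ ^ z) q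

include hZ hPc hs hπ in
/-- Crossing the exceptional divisor. -/
theorem V_step [IsAlgClosed k] (hn : 1 ≤ n) (c z : ℤ) (q : ℕ) (h0 : ¬ (q = 0 ∧ 0 ≤ z))
    (hq : ¬ (q + 1 = n ∧ z ≤ -(n : ℤ))) (h : V hZ hπ c (z + 1) q) : V hZ hπ c z q := by
  rcases Nat.le_one_iff_eq_zero_or_eq_one.1 hs with rfl | rfl
  · have he : exc hZ hπ = 1 := by
      have hI : _root_.BlowUp.exceptional π (Scheme.IdealSheafData.vanishingIdeal ⟨Set.range P, hZ⟩) = ⊤ := by
        rw [show (⟨Set.range P, hZ⟩ : Closeds ↥(CohB1.ProjSpace n k)) = ⊥ from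
          Closeds.ext (by show Set.range P = ∅; exact Set.range_eq_empty P),
          Scheme.IdealSheafData.vanishingIdeal_bot]
        exact Scheme.IdealSheafData.comap_top _
      have h1 : ∀ (I : X.IdealSheafData) (h : PicF.IsInvertible (ClSub.idealMod I)), I = ⊤ → clsMod h = 1 := by
        rintro _ h rfl
        exact HodgeIndex.cls_idealMod_top h
      exact h1 _ _ hI
    unfold V at h ⊢
    rw [he, one_zpow] at h ⊢
    exact h
  · have e : (⟨Set.range P, hZ⟩ : Closeds ↥(CohB1.ProjSpace n k)) = ⟨{P 0}, hPc 0⟩ :=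
      Closeds.ext (by show Set.range P = {P 0}; rw [Set.range_unique]; rfl)
    have hπ' : _root_.BlowUp.IsBlowUp π (Scheme.IdealSheafData.vanishingIdeal ⟨{P 0}, hPc 0⟩) := e ▸ hπ
    have he : exc hZ hπ = clsMod (IdealModSec.isInvertible_of_isEffCartier hπ'.1) := clsMod_exceptional_congr e _ _
    unfold V at h ⊢
    rw [he] at h ⊢
    exact van_step π (P 0) (hPc 0) hn hπ' c z q h0 hq h

include hP hPc hn hs hπ in
/-- Non-negative multiples of the exceptional class. -/
theorem V_nonneg [IsAlgClosed k] (c : ℤ) (m q : ℕ) (hq : 1 ≤ q) (h1 : q = 1 → (m : ℤ) ≤ c + 1)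
    (hqn : ¬ (q = n ∧ c ≤ -(n : ℤ) - 1)) : V hZ hπ c (m : ℤ) q := by
  unfold V
  rw [zpow_natCast]
  refine (van_iff (hasCls_tw' hZ (hPc := hPc) hπ hs c m) q).2 ?_
  rcases eq_or_lt_of_le hq with rfl | hq2
  · refine subsingleton_H1 hP hZ (by omega) hπ c _ ?_
    have := h1 rfl
    rw [Finset.sum_const, Finset.card_univ, Fintype.card_fin, nsmul_eq_mul]
    rcases Nat.le_one_iff_eq_zero_or_eq_one.1 hs with rfl | rfl
    · push_cast
      omega
    · simpa using this
  · exact subsingleton_high π (isPts_range (by omega) hPc hZ) (isLocPow_fat hP hZ (by omega) _) hπ c q hq2 hqn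

include hPc hn hs hπ in
theorem V_zero (c : ℤ) (q : ℕ) (h0 : ¬ (q = 0 ∧ 0 ≤ c)) (hqn : ¬ (q = n ∧ c ≤ -(n : ℤ) - 1)) : V hZ hπ c 0 q := by
  unfold V
  rw [zpow_zero, mul_one]
  exact (van_iff (hasCls_pullTwist π c) q).2 (subsingleton_pullTwist (isPts_range (by omega) hPc hZ) π hπ c q h0 hqn)

include hPc hn hs hπ in
/-- Few negative multiples, or high degree. -/
theorem V_neg [IsAlgClosed k] (c : ℤ) (j q : ℕ) (hj : j + 1 ≤ n ∨ n ≤ q) (h0 : ¬ (q = 0 ∧ 0 ≤ c))
    (hqn : ¬ (q = n ∧ c ≤ -(n : ℤ) - 1)) : V hZ hπ c (-(j : ℤ)) q := by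
  induction j with
  | zero =>
    rw [Nat.cast_zero, neg_zero]
    exact V_zero hZ hn hs hπ (hPc := hPc) c q h0 hqn
  | succ j ih =>
    refine V_step hZ hs hπ (hPc := hPc) (by omega) c _ q (by omega) (by omega) ?_
    rw [show -(((j + 1 : ℕ) : ℤ)) + 1 = -(j : ℤ) by push_cast; ring]
    exact ih (by omega)

end GrothLib.BlowPts12
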