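import Groth.Agent.Lib.BlowPts12.Basic
import Groth.Agent.Lib.SimpleCok12.Quadric

/-!
# Twists pulled back to a blow-up of projective space in finitely many points
-/

set_option autoImplicit false
set_option linter.all false
set_option backward.isDefEq.respectTransparency false
set_option maxHeartbeats 1000000

universe u

open CategoryTheory CategoryTheory.Limits AlgebraicGeometry TopologicalSpace
open GrothLib.Cube (Pic clsMod pull HasCls hasCls_clsMod)
open GrothLib.HodgeIndex (rep isInv_rep cls_rep)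

noncomputable section

namespace GrothLib.BlowPts12

variable (k : Type u) [Field k] {n : ℕ} (S : Closeds ↥(CohB1.ProjSpace n k))

/-- A finite set of closed points of a projective space of positive dimension. -/
structure IsPts : Prop where
  pos : 1 ≤ n
  fin : (S : Set ↥(CohB1.ProjSpace n k)).Finite
  closed : ∀ s ∈ S, IsClosed ({s} : Set ↥(CohB1.ProjSpace n k))

variable {k} {S}

theorem isPts_range {s : ℕ} {P : Fin s → ↥(CohB1.ProjSpace n k)} (hn : 1 ≤ n)
    (hPc : ∀ i, IsClosed ({P i} : Set ↥(CohB1.ProjSpace n k))) (hZ : IsClosed (Set.range P)) :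
    IsPts k (⟨Set.range P, hZ⟩ : Closeds ↥(CohB1.ProjSpace n k)) :=
  ⟨hn, Set.finite_range P, fun _ ⟨i, hi⟩ => hi ▸ hPc i⟩

variable (hS : IsPts k S) {X : Scheme.{u}} (π : X ⟶ CohB1.ProjSpace n k)
  (hπ : _root_.BlowUp.IsBlowUp π (Scheme.IdealSheafData.vanishingIdeal S))

include hS in
theorem isLocSeq_pts : BlowCoh8.IsLocSeq (Scheme.IdealSheafData.vanishingIdeal S) := by
  letI : (CohB1.ProjSpace n k).Over (Spec (CommRingCat.of k)) := ⟨CohB1.ProjSpace.toSpec n k⟩
  haveI : IsProper (CohB1.ProjSpace n k ↘ Spec (CommRingCat.of k)) := Chow.isProper_toSpec n k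
  haveI : IsIntegral (CohB1.ProjSpace n k) := ProjDim.isIntegral_proj k n
  haveI := Euler.isNoetherian_of_proper (X := CohB1.ProjSpace n k) k
  refine isLocSeq (DualTF27.isRegular_projSpace k n) S hS.fin hS.closed fun hg => ?_
  have hu : ({genericPoint ↥(CohB1.ProjSpace n k)} : Set ↥(CohB1.ProjSpace n k)) = Set.univ := by
    rw [← (hS.closed _ hg).closure_eq]
    exact genericPoint_spec _
  haveI : Subsingleton ↥(CohB1.ProjSpace n k) := ⟨fun a b => by
    have ha : a ∈ ({genericPoint ↥(CohB1.ProjSpace n k)} : Set ↥(CohB1.ProjSpace n k)) := hu ▸ trivial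
    have hb : b ∈ ({genericPoint ↥(CohB1.ProjSpace n k)} : Set ↥(CohB1.ProjSpace n k)) := hu ▸ trivial
    rw [Set.mem_singleton_iff.1 ha, Set.mem_singleton_iff.1 hb]⟩
  haveI : Subsingleton (IrreducibleCloseds ↥(CohB1.ProjSpace n k)) := ⟨fun A B => IrreducibleCloseds.ext (by
    show (A.carrier : Set _) = B.carrier
    rw [A.2.1.eq_univ, B.2.1.eq_univ])⟩
  have h0 : topologicalKrullDim ↥(CohB1.ProjSpace n k) ≤ 0 := Order.krullDim_nonpos_of_subsingleton
  rw [Groth.Agent.S10829.result k n] at h0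
  have := hS.pos
  norm_cast at h0
  omega

include hS hπ in
theorem isProper_toSpec : IsProper (π ≫ CohB1.ProjSpace.toSpec n k) := by
  haveI := BlowCoh8.isProper_of_isLocSeq (isLocSeq_pts hS) hπ
  haveI := Chow.isProper_toSpec n k
  infer_instance

include hS hπ in
/-- The cohomology of a pulled-back twist. -/
theorem subsingleton_pullTwist (t : ℤ) (i : ℕ) (h0 : ¬ (i = 0 ∧ 0 ≤ t)) (hn : ¬ (i = n ∧ t ≤ -(n : ℤ) - 1)) :
    Subsingleton (Coh.HH X ((Scheme.Modules.pullback π).obj (Twist.twistProjSpace n k t)) i) := by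
  letI : (CohB1.ProjSpace n k).Over (Spec (CommRingCat.of k)) := ⟨CohB1.ProjSpace.toSpec n k⟩
  letI : X.Over (Spec (CommRingCat.of k)) := ⟨π ≫ CohB1.ProjSpace.toSpec n k⟩
  haveI : IsProper (CohB1.ProjSpace n k ↘ Spec (CommRingCat.of k)) := Chow.isProper_toSpec n k
  haveI : IsIntegral (CohB1.ProjSpace n k) := ProjDim.isIntegral_proj k n
  haveI := Euler.isNoetherian_of_proper (X := CohB1.ProjSpace n k) k
  obtain ⟨e⟩ := nonempty_hhEquiv_pull k rfl (isLocSeq_pts hS) hπ (ProjPic26.isInvertible_twistProjSpace n k t) i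
  haveI := ProjCohom.subsingleton_HH (R := k) (n := n) (d := t) (q := i) h0 (by rintro ⟨a, b⟩; exact hn ⟨a, by linarith⟩)
  exact e.toEquiv.subsingleton

/-- The class of a pulled-back twist. -/
def pt (t : ℤ) : Pic X := pull π (ProjPic26.tw n k t)

theorem hasCls_pullTwist (t : ℤ) : HasCls ((Scheme.Modules.pullback π).obj (Twist.twistProjSpace n k t)) (pt π t) :=
  (hasCls_clsMod (ProjPic26.isInvertible_twistProjSpace n k t)).pullback π

theorem pt_mul (a b : ℤ) : pt π a * pt π b = pt π (a + b) := by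
  unfold pt
  rw [ProjPic26.tw_add, map_mul]

theorem pt_zero : pt π 0 = 1 := by
  unfold pt
  rw [ProjPic26.tw_eq_zpow, zpow_zero, map_one]

include hS hπ in
theorem subsingleton_sigma_pullTwist {M : X.Modules} {r : ℕ} {a : ℤ}
    (e : M ≅ ∐ fun _ : Fin r => (Scheme.Modules.pullback π).obj (Twist.twistProjSpace n k a)) (t : ℤ) (i : ℕ)
    (h0 : ¬ (i = 0 ∧ 0 ≤ a + t)) (hn : ¬ (i = n ∧ a + t ≤ -(n : ℤ) - 1)) :
    Subsingleton (Coh.HH X (CohB1.tensorMod M (rep (pt π t))) i) := by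
  obtain ⟨g⟩ := ((hasCls_pullTwist π a).tensor (Quad12.hasCls_rep' (pt π t))).iso (hasCls_pullTwist π (a + t))
    (pt_mul π a t)
  refine CMReg.subsingleton_of_iso (Ample.LineData.tensorModMapIso e (Iso.refl _) ≪≫
    CMReg.tensorSigmaIso (fun _ : Fin r => (Scheme.Modules.pullback π).obj (Twist.twistProjSpace n k a))
      (rep (pt π t))).symm ?_
  exact CMReg.subsingleton_HH_sigma _ fun _ =>
    CMReg.subsingleton_of_iso g.symm (subsingleton_pullTwist hS π hπ _ i h0 hn)

section coker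

variable (hn2 : 2 ≤ n) {a b : ℕ} {P Q : X.Modules}
  (eP : P ≅ ∐ fun _ : Fin a => (Scheme.Modules.pullback π).obj (Twist.twistProjSpace n k (-2)))
  (eQ : Q ≅ ∐ fun _ : Fin b => (Scheme.Modules.pullback π).obj (Twist.twistProjSpace n k (-1)))

include hS hπ hn2 eP eQ in
/-- Maps to a cokernel lift. -/
theorem exists_lift (f : P ⟶ Q) [Mono f] (g : Q ⟶ cokernel f) : ∃ ψ : Q ⟶ Q, ψ ≫ cokernel.π f = g := by
  letI : X.Over (Spec (CommRingCat.of k)) := ⟨π ≫ CohB1.ProjSpace.toSpec n k⟩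
  obtain ⟨⟨u⟩, ⟨u'⟩⟩ := SimpleCok12.nonempty_inverse (hasCls_pullTwist π (-1)) (w := pt π 1)
    ((pt_mul π (-1) 1).trans (pt_zero π))
  have hsc : (ShortComplex.mk f (cokernel.π f) (cokernel.condition f)).ShortExact :=
    { exact := ShortComplex.exact_of_g_is_cokernel _ (cokernelIsCokernel f) }
  exact SimpleCok12.exists_lift_sigma k hsc eQ u u'
    (subsingleton_sigma_pullTwist hS π hπ eP 1 1 (by omega) (by omega)) g

include hS hπ eP eQ in
/-- No maps go back. -/
theorem hom_eq_zero (g : Q ⟶ P) : g = 0 := by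
  letI : X.Over (Spec (CommRingCat.of k)) := ⟨π ≫ CohB1.ProjSpace.toSpec n k⟩
  obtain ⟨⟨u⟩, ⟨u'⟩⟩ := SimpleCok12.nonempty_inverse (hasCls_pullTwist π (-1)) (w := pt π 1)
    ((pt_mul π (-1) 1).trans (pt_zero π))
  have := hS.pos
  exact SimpleCok12.hom_sigma_eq_zero k eQ u u'
    (subsingleton_sigma_pullTwist hS π hπ eP 1 0 (by omega) (by omega)) g

include hS hπ hn2 eP eQ in
/-- Isomorphic cokernels come from one orbit. -/
theorem exists_isos (f f' : P ⟶ Q) [Mono f] [Mono f'] (e : cokernel f ≅ cokernel f') :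
    ∃ (β : Q ≅ Q) (γ : P ≅ P), f ≫ β.hom = γ.hom ≫ f' := by
  have key : ∀ (u : P ⟶ Q) [Mono u] (β : Q ⟶ Q), β ≫ cokernel.π u = cokernel.π u → β = 𝟙 Q := fun u _ β h => by
    have hu : (ShortComplex.mk u (cokernel.π u) (cokernel.condition u)).ShortExact :=
      { exact := ShortComplex.exact_of_g_is_cokernel _ (cokernelIsCokernel u) }
    obtain ⟨w, hw⟩ := KernelFork.IsLimit.lift' hu.fIsKernel (β - 𝟙 Q) (by
      show (β - 𝟙 Q) ≫ cokernel.π u = 0
      rw [Preadditive.sub_comp, h, Category.id_comp, sub_self])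
    have hw' : (w : Q ⟶ P) ≫ u = β - 𝟙 Q := hw
    rw [hom_eq_zero hS π hπ eP eQ (w : Q ⟶ P), zero_comp] at hw'
    exact sub_eq_zero.1 hw'.symm
  obtain ⟨β, hβ⟩ := exists_lift hS π hπ hn2 eP eQ f' (cokernel.π f ≫ e.hom)
  obtain ⟨β', hβ'⟩ := exists_lift hS π hπ hn2 eP eQ f (cokernel.π f' ≫ e.inv)
  have h1 : β ≫ β' = 𝟙 Q := key f _ (by
    rw [Category.assoc, hβ', ← Category.assoc, hβ, Category.assoc, e.hom_inv_id, Category.comp_id])
  have h2 : β' ≫ β = 𝟙 Q := key f' _ (by
    rw [Category.assoc, hβ, ← Category.assoc, hβ', Category.assoc, e.inv_hom_id, Category.comp_id])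
  have hf : (ShortComplex.mk f (cokernel.π f) (cokernel.condition f)).ShortExact :=
    { exact := ShortComplex.exact_of_g_is_cokernel _ (cokernelIsCokernel f) }
  have hf' : (ShortComplex.mk f' (cokernel.π f') (cokernel.condition f')).ShortExact :=
    { exact := ShortComplex.exact_of_g_is_cokernel _ (cokernelIsCokernel f') }
  obtain ⟨(γ : P ⟶ P), hγ⟩ := KernelFork.IsLimit.lift' hf'.fIsKernel (f ≫ β) (by
    show (f ≫ β) ≫ cokernel.π f' = 0
    rw [Category.assoc, hβ, cokernel.condition_assoc, Limits.zero_comp])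
  obtain ⟨(γ' : P ⟶ P), hγ'⟩ := KernelFork.IsLimit.lift' hf.fIsKernel (f' ≫ β') (by
    show (f' ≫ β') ≫ cokernel.π f = 0
    rw [Category.assoc, hβ', cokernel.condition_assoc, Limits.zero_comp])
  have g1 : γ ≫ f' = f ≫ β := hγ
  have g2 : γ' ≫ f = f' ≫ β' := hγ'
  refine ⟨⟨β, β', h1, h2⟩, ⟨γ, γ', (cancel_mono f).1 ?_, (cancel_mono f').1 ?_⟩, g1.symm⟩
  · rw [Category.assoc, g2, reassoc_of% g1, h1, Category.comp_id, Category.id_comp]
  · rw [Category.assoc, g1, reassoc_of% g2, h2, Category.comp_id, Category.id_comp]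

end coker

end GrothLib.BlowPts12
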