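import Groth.Agent.Lib.BlowPts12.Points

/-!
# Uniform multiplicity at at most one point
-/

set_option autoImplicit false
set_option linter.all false
set_option backward.isDefEq.respectTransparency false
set_option maxHeartbeats 1000000

universe u

open CategoryTheory CategoryTheory.Limits AlgebraicGeometry TopologicalSpace
open GrothLib.Cube (Pic clsMod pull HasCls hasCls_clsMod)

noncomputable section

namespace GrothLib.BlowPts12

variable {k : Type u} [Field k] {n s : ℕ} {P : Fin s → ↥(CohB1.ProjSpace n k)}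
  (hP : Function.Injective P) {hPc : ∀ t, IsClosed ({P t} : Set ↥(CohB1.ProjSpace n k))}
  (hZ : IsClosed (Set.range P)) {X : Scheme.{u}} {π : X ⟶ CohB1.ProjSpace n k}
  (hn : 1 ≤ n) (hπ : _root_.BlowUp.IsBlowUp π (Scheme.IdealSheafData.vanishingIdeal ⟨Set.range P, hZ⟩))

include hZ in
theorem fat_const (hs : s ≤ 1) (m : ℕ) :
    fat k P hPc (fun _ => m) = Scheme.IdealSheafData.vanishingIdeal ⟨Set.range P, hZ⟩ ^ m := by
  rw [fat, Finset.prod_pow]
  congr 1
  rcases Nat.le_one_iff_eq_zero_or_eq_one.1 hs with rfl | rfl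
  · rw [show (⟨Set.range P, hZ⟩ : Closeds ↥(CohB1.ProjSpace n k)) = ⊥ from
      Closeds.ext (by show Set.range P = ∅; exact Set.range_eq_empty P), Scheme.IdealSheafData.vanishingIdeal_bot,
      Fin.prod_univ_zero, Scheme.IdealSheafData.one_eq_top]
  · rw [Fin.prod_univ_one]
    congr 1
    exact Closeds.ext (by show {P 0} = Set.range P; rw [Set.range_unique]; rfl)

/-- The class of the exceptional ideal. -/
def exc (hπ : _root_.BlowUp.IsBlowUp π (Scheme.IdealSheafData.vanishingIdeal ⟨Set.range P, hZ⟩)) : Pic X :=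
  clsMod (IdealModSec.isInvertible_of_isEffCartier hπ.1)

include hπ in
theorem hasCls_exceptional :
    HasCls (ClSub.idealMod (_root_.BlowUp.exceptional π (Scheme.IdealSheafData.vanishingIdeal ⟨Set.range P, hZ⟩)))
      (exc hZ hπ) :=
  ⟨IdealModSec.isInvertible_of_isEffCartier hπ.1, rfl⟩

include hπ in
theorem hasCls_tw' (hs : s ≤ 1) (c : ℤ) (m : ℕ) :
    HasCls (tw' (hPc := hPc) π c (fun _ => m)) (pt π c * exc hZ hπ ^ m) := by
  refine (hasCls_pullTwist π c).tensor ?_
  obtain ⟨h, e⟩ := ArSurf29.cls_idealMod_pow hπ.1 m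
  have e' : (fat k P hPc fun _ => m).comap π =
      (Scheme.IdealSheafData.vanishingIdeal ⟨Set.range P, hZ⟩).comap π ^ m := by
    let φ : (CohB1.ProjSpace n k).IdealSheafData →* X.IdealSheafData :=
      { toFun := fun K => K.comap π
        map_one' := Scheme.IdealSheafData.comap_top _
        map_mul' := fun A B => BlowUp.comap_mul A B π }
    rw [fat_const hZ hs]
    exact map_pow φ _ m
  rw [e']
  exact ⟨h, e⟩

end GrothLib.BlowPts12
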