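import Groth.Agent.Lib.BlowPts12.Twists
import Groth.Agent.Lib.PtsReg5.Main
import Groth.Agent.Lib.HodgeIndex.IdealLe
import Groth.Agent.Lib.HodgeIndex.IdealMul
import Groth.Agent.Lib.HodgeIndex.Pullback
import Groth.Agent.Lib.UnivThick.FOT

/-!
# Cohomology of twists of exceptional divisors on a blow-up of projective space in points
-/

set_option autoImplicit false
set_option linter.all false
set_option backward.isDefEq.respectTransparency false
set_option maxHeartbeats 1000000

universe u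

open CategoryTheory CategoryTheory.Limits AlgebraicGeometry TopologicalSpace
open GrothLib.QCoh (stalkLin)
open GrothLib.Cube (Pic clsMod pull HasCls hasCls_clsMod)

noncomputable section

namespace GrothLib.BlowPts12

section general

variable {X Y : Scheme.{u}} (f : X ⟶ Y)

theorem idealModι_unitToPush_push (A : Y.IdealSheafData) :
    (ClSub.idealModι A ≫ ClSub.unitToPush f) ≫
      (Scheme.Modules.pushforward f).map (ClSub.toSubscheme (A.comap f)) = 0 := by
  refine Scheme.Modules.hom_ext _ _ fun W => AddCommGrpCat.hom_ext (AddMonoidHom.ext fun m => ?_)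
  show (A.comap f).subschemeι.app (f ⁻¹ᵁ W) (f.app W (IdealModSec.val A W m)) = 0
  obtain ⟨g, hg⟩ : ∃ g : (A.comap f).subscheme ⟶ A.subscheme, g ≫ A.subschemeι = (A.comap f).subschemeι ≫ f :=
    ⟨Scheme.IdealSheafData.subschemeMap (A.comap f) A f ((Scheme.IdealSheafData.map_gc f).le_u_l A),
      Scheme.IdealSheafData.subschemeMap_subschemeι _ _ _ _⟩
  have h := Scheme.Hom.congr_app hg W
  rw [Scheme.Hom.comp_app, Scheme.Hom.comp_app] at h
  have h' := ConcreteCategory.congr_hom h (IdealModSec.val A W m)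
  simp only [CommRingCat.comp_apply] at h'
  erw [IdealModSec.app_val A W m, map_zero] at h'
  refine (ConcreteCategory.bijective_of_isIso _).1 ((h'.symm).trans (map_zero _).symm)

/-- Leray for a twisted module without higher direct images. -/
theorem subsingleton_HH_tensor_of_push {A : Type u} [CommRing A] [X.Over (Spec (CommRingCat.of A))]
    [Y.Over (Spec (CommRingCat.of A))] (hf : f ≫ Y ↘ Spec (CommRingCat.of A) = X ↘ Spec (CommRingCat.of A))
    [IsProper f] [HasInjectiveResolutions X.Modules]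
    (N : Y.Modules) (hN : FlatMod.IsFinLocFree N) (K : X.Modules)
    [(CohB1.tensorMod ((Scheme.Modules.pullback f).obj N) K).IsQuasicoherent]
    (hK : ∀ p, 1 ≤ p → IsZero ((Coh.Rpush f p).obj K)) (i : ℕ)
    (h : Subsingleton (Coh.HH Y (CohB1.tensorMod ((Scheme.Modules.pushforward f).obj K) N) i)) :
    Subsingleton (Coh.HH X (CohB1.tensorMod ((Scheme.Modules.pullback f).obj N) K) i) := by
  let G := CohB1.tensorMod ((Scheme.Modules.pullback f).obj N) K
  have hz : ∀ p, 1 ≤ p → IsZero ((Coh.Rpush f p).obj G) := fun p hp => by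
    obtain ⟨e⟩ := Groth.Agent.S0927.result f K N hN p
    have h0 : IsZero (CohB1.tensorMod ((Coh.Rpush f p).obj K) N) := (Euler.tF N).map_isZero (hK p hp)
    exact h0.of_iso (e.symm ≪≫ GrTilde.tensorModComm N ((Coh.Rpush f p).obj K))
  have hac : Cohom.AcyclicOn f.base Y.affineOpens (Coh.toAb G) := fun W hW p => by
    refine BlowPt28.subsingleton_ext_restrict G (f ⁻¹ᵁ W) (p + 1) ?_
    obtain ⟨e, -⟩ := BCCoh.exists_Rpush_equiv (f := f) (V := W) (hV := hW) (M := G) (p + 1)
    refine @Equiv.subsingleton _ _ e.toEquiv ?_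
    refine subsingleton_of_forall_eq 0 fun t => ?_
    have h := (IsZero.iff_id_eq_zero _).1 (hz (p + 1) (by omega))
    simpa using ConcreteCategory.congr_hom (congrArg (fun φ : _ ⟶ _ => Scheme.Modules.Hom.app φ W) h) t
  obtain ⟨e1⟩ := RatSing29.nonempty_push_linearEquiv (A := A) f hf.symm G hac i
  obtain ⟨e0⟩ := Groth.Agent.S0927.result f K N hN 0
  let e : (Scheme.Modules.pushforward f).obj G ≅ CohB1.tensorMod ((Scheme.Modules.pushforward f).obj K) N :=
    ((Scheme.Modules.pushforward f).rightDerivedZeroIsoSelf.app G).symm ≪≫ e0.symm ≪≫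
      Ample.LineData.tensorModMapIso (Iso.refl N) ((Scheme.Modules.pushforward f).rightDerivedZeroIsoSelf.app K) ≪≫
      GrTilde.tensorModComm N ((Scheme.Modules.pushforward f).obj K)
  haveI := (Euler.hhEquiv (A := A) e i).toEquiv.subsingleton
  exact e1.toEquiv.subsingleton

/-- A submodule of a twist of `O` without sections. -/
theorem subsingleton_HH0_tensor {A : Type u} [Field A] [X.Over (Spec (CommRingCat.of A))]
    {L M : X.Modules} (hL : FlatMod.IsFinLocFree L) (j : M ⟶ Coh.structureModule X) [Mono j]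
    (h : Subsingleton (Coh.HH X L 0)) : Subsingleton (Coh.HH X (CohB1.tensorMod L M) 0) := by
  let F : X.Modules ⥤ X.Modules := (DCoh.tensorBi (X := X)).obj L
  haveI : PreservesFiniteLimits F := ProjFormula.preservesFiniteLimits_tensorBi_obj (OX.flat_of_isFinLocFree hL)
  haveI : Mono (F.map j) := inferInstance
  haveI : Subsingleton (Coh.HH X (F.obj (Coh.structureModule X)) 0) :=
    CMReg.subsingleton_of_iso (Euler.tFUnitIso L).symm h
  exact (NegTwist.injective_hhMap_zero A (F.map j)).subsingleton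

end general

variable (k : Type u) [Field k] {n : ℕ} (S : Closeds ↥(CohB1.ProjSpace n k))

/-- An ideal which is locally a power of the ideal of the points. -/
def IsLocPow (𝔞 : (CohB1.ProjSpace n k).IdealSheafData) : Prop :=
  ∀ x : ↥(CohB1.ProjSpace n k), ∃ U : (CohB1.ProjSpace n k).affineOpens, x ∈ U.1 ∧
    ∃ (r : ℕ) (a : Fin (r + 1) → Γ(CohB1.ProjSpace n k, U.1)),
      LCI.IsKoszulRegularSeq Γ(CohB1.ProjSpace n k, U.1) (List.ofFn a) ∧
      (Scheme.IdealSheafData.vanishingIdeal S).ideal U = BlowUp17.ctr a ∧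
      ∃ m : ℕ, 𝔞.ideal U = (Scheme.IdealSheafData.vanishingIdeal S).ideal U ^ m

variable {k} {S}

theorem st_eq_top_of_notMem {𝔞 : (CohB1.ProjSpace n k).IdealSheafData} (h𝔞 : IsLocPow k S 𝔞)
    {x : ↥(CohB1.ProjSpace n k)} (hx : x ∉ S) : Goodman.st 𝔞 x = ⊤ := by
  obtain ⟨U, hxU, r, a, -, -, m, hm⟩ := h𝔞 x
  rw [Goodman.st_eq _ U hxU, hm, Ideal.map_pow, ← Goodman.st_eq _ U hxU, Goodman.st_of_notMem _ (by
    rw [Scheme.IdealSheafData.coe_support_vanishingIdeal]; exact hx), ← Ideal.one_eq_top, one_pow]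

variable {X : Scheme.{u}} (π : X ⟶ CohB1.ProjSpace n k)
  {𝔞 : (CohB1.ProjSpace n k).IdealSheafData} (hS : IsPts k S) (h𝔞 : IsLocPow k S 𝔞)
  (hπ : _root_.BlowUp.IsBlowUp π (Scheme.IdealSheafData.vanishingIdeal S))

include hS h𝔞 hπ in
theorem isZero_Rpush_ideal [HasInjectiveResolutions X.Modules] (p : ℕ) (hp : 1 ≤ p) :
    IsZero ((Coh.Rpush π p).obj (ClSub.idealMod (𝔞.comap π))) := by
  haveI : IsProper π := BlowCoh8.isProper_of_isLocSeq (isLocSeq_pts hS) hπ
  haveI := H1Sheaf6.isQuasicoherent_idealMod (X := X) (𝔞.comap π)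
  obtain ⟨q, rfl⟩ : ∃ q, p = q + 1 := ⟨p - 1, by omega⟩
  choose U hxU r a ha hJU m hm using h𝔞
  refine RelVanish.isZero_Rpush_of_cover π (ClSub.idealMod (𝔞.comap π)) (q + 1) (fun x => (U x).1) (fun x => (U x).2)
    (fun x => ⟨x, hxU x⟩) fun x => ?_
  refine BlowCoh8.subsingleton_ext hπ (hJU x) (ha x) (ClSub.idealModι (𝔞.comap π)) (m x)
    ⟨fun V => IdealModSec.val_injective _ V, fun V hV b _ hb y => ?_⟩ q
  have e : (𝔞.comap π).ideal V = Ideal.span {b ^ m x} := by
    rw [BlowUp.ideal_comap_eq_map 𝔞 π (U x) V hV, hm x, Ideal.map_pow,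
      ← BlowUp.ideal_comap_eq_map _ π (U x) V hV, hb, Ideal.span_singleton_pow]
  constructor
  · rintro ⟨z, rfl⟩
    exact e ▸ IdealModSec.val_mem _ V z
  · intro hy
    exact IdealModSec.exists_val_eq _ V (e.ge hy)

include hS h𝔞 hπ in
/-- Vanishing on the blow-up comes from the projective space. -/
theorem subsingleton_tensor_of_push (c : ℤ) (i : ℕ)
    (h : Subsingleton (Coh.HH (CohB1.ProjSpace n k)
      (CMReg.Ft ((Scheme.Modules.pushforward π).obj (ClSub.idealMod (𝔞.comap π))) c) i)) :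
    Subsingleton (Coh.HH X (CohB1.tensorMod ((Scheme.Modules.pullback π).obj (Twist.twistProjSpace n k c))
      (ClSub.idealMod (𝔞.comap π))) i) := by
  letI : (CohB1.ProjSpace n k).Over (Spec (CommRingCat.of k)) := ⟨CohB1.ProjSpace.toSpec n k⟩
  letI : X.Over (Spec (CommRingCat.of k)) := ⟨π ≫ CohB1.ProjSpace.toSpec n k⟩
  haveI : IsProper π := BlowCoh8.isProper_of_isLocSeq (isLocSeq_pts hS) hπ
  haveI : IsProper (X ↘ Spec (CommRingCat.of k)) := isProper_toSpec hS π hπ
  haveI := Euler.isNoetherian_of_proper (X := X) k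
  letI := RpushSupp20.hasInjectiveResolutions X
  haveI : (CohB1.tensorMod ((Scheme.Modules.pullback π).obj (Twist.twistProjSpace n k c))
      (ClSub.idealMod (𝔞.comap π))).IsQuasicoherent :=
    (TensorPerf20.isCoh_tensor (Euler.isCoh_of_isInvertible (hasCls_pullTwist π c).1) (RegPow.isCoh_idealMod _)).1
  exact subsingleton_HH_tensor_of_push (A := k) π rfl (Twist.twistProjSpace n k c)
    (Euler.isFinLocFree_of_isInvertible (ProjPic26.isInvertible_twistProjSpace n k c)) (ClSub.idealMod (𝔞.comap π))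
    (fun p hp => isZero_Rpush_ideal π hS h𝔞 hπ p hp) i h

include hS h𝔞 hπ in
/-- The direct image of the twisted ideal sits between an ideal and the structure module. -/
theorem exists_seq : ∃ (φ : (Scheme.Modules.pushforward π).obj (ClSub.idealMod (𝔞.comap π)) ⟶
      Coh.structureModule (CohB1.ProjSpace n k))
    (θ : ClSub.idealMod 𝔞 ⟶ (Scheme.Modules.pushforward π).obj (ClSub.idealMod (𝔞.comap π))),
    Mono φ ∧ θ ≫ φ = ClSub.idealModι 𝔞 := by
  haveI := BlowCoh8.isIso_unitToPush (isLocSeq_pts hS) hπ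
  let G := Scheme.Modules.pushforward π
  haveI : Mono (G.map (ClSub.idealModι (𝔞.comap π))) := by
    haveI : Mono (ClSub.idealModι (𝔞.comap π)) := inferInstanceAs (Mono (kernel.ι _))
    infer_instance
  refine ⟨G.map (ClSub.idealModι (𝔞.comap π)) ≫ inv (ClSub.unitToPush π),
    kernel.lift _ _ (idealModι_unitToPush_push π 𝔞) ≫ (PreservesKernel.iso G (ClSub.toSubscheme (𝔞.comap π))).inv,
    inferInstance, ?_⟩
  rw [← Category.assoc, IsIso.comp_inv_eq, Category.assoc]
  have := PreservesKernel.iso_inv_ι G (ClSub.toSubscheme (𝔞.comap π))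
  erw [this, kernel.lift_ι]

theorem support_cokernel_subset {T : Set ↥(CohB1.ProjSpace n k)} {A B : (CohB1.ProjSpace n k).Modules} (u : A ⟶ B)
    (h : ∀ x, x ∉ T → Function.Surjective (stalkLin u x)) : CohB1.support (cokernel u) ⊆ T := fun x hx => by
  by_contra hxT
  exact QCoh.notMem_support_cokernel_of_surjective u (h x hxT) hx

theorem surjective_idealModι {x : ↥(CohB1.ProjSpace n k)} (hx : Goodman.st 𝔞 x = ⊤) :
    Function.Surjective (stalkLin (ClSub.idealModι 𝔞) x) := fun v => by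
  obtain ⟨a, rfl⟩ := (HomSh.unitStalk x).surjective v
  obtain ⟨w, rfl⟩ : a ∈ Goodman.st 𝔞 x := hx ▸ trivial
  exact ⟨w, Goodman.stalkLin_idealModι 𝔞 x w⟩

include hS in
theorem subsingleton_Ft_finite {Q : (CohB1.ProjSpace n k).Modules}
    (hQ : CohB1.support Q ⊆ (S : Set ↥(CohB1.ProjSpace n k))) (c : ℤ) {i : ℕ} (hi : 1 ≤ i) :
    Subsingleton (Coh.HH (CohB1.ProjSpace n k) (CMReg.Ft Q c) i) := by
  have hsub := (CMReg.support_tensorMod_subset (X := CohB1.ProjSpace n k) Q _ (CMReg.isInvertible_twist c)).trans hQ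
  exact Euler.subsingleton_HH_of_finite_support _ (hS.fin.subset hsub) (fun y hy => hS.closed y (hsub hy)) i hi

include hS h𝔞 hπ in
/-- Higher cohomology. -/
theorem subsingleton_high (c : ℤ) (i : ℕ) (hi : 2 ≤ i) (hn : ¬ (i = n ∧ c ≤ -(n : ℤ) - 1)) :
    Subsingleton (Coh.HH X (CohB1.tensorMod ((Scheme.Modules.pullback π).obj (Twist.twistProjSpace n k c))
      (ClSub.idealMod (𝔞.comap π))) i) := by
  refine subsingleton_tensor_of_push π hS h𝔞 hπ c i ?_
  obtain ⟨φ, θ, hφ, hθ⟩ := exists_seq π hS h𝔞 hπ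
  haveI := hφ
  have hseq : (ShortComplex.mk φ (cokernel.π φ) (cokernel.condition φ)).ShortExact :=
    { exact := ShortComplex.exact_of_g_is_cokernel _ (cokernelIsCokernel φ) }
  have hsupp := support_cokernel_subset φ (T := S) fun x hx v => by
    obtain ⟨w, hw⟩ := surjective_idealModι (st_eq_top_of_notMem h𝔞 hx) v
    exact ⟨stalkLin θ x w, by rw [← QCoh.stalkLin_comp, hθ, hw]⟩
  obtain ⟨j, rfl⟩ : ∃ j, i = j + 1 := ⟨i - 1, by omega⟩
  obtain ⟨g⟩ := CMReg.nonempty_Ft_structure (n := n) (k := k) c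
  exact CMReg.sub_X₁ hseq (subsingleton_Ft_finite hS hsupp c (by omega))
    (CMReg.subsingleton_of_iso g.symm (ProjCohom.subsingleton_HH (R := k) (n := n) (d := c) (q := j + 1) (by omega)
      (by rintro ⟨a, b⟩; exact hn ⟨a, by linarith⟩)))

include hS hπ in
/-- Negative twists have no sections. -/
theorem subsingleton_zero (c : ℤ) (hc : c < 0) :
    Subsingleton (Coh.HH X (CohB1.tensorMod ((Scheme.Modules.pullback π).obj (Twist.twistProjSpace n k c))
      (ClSub.idealMod (𝔞.comap π))) 0) := by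
  letI : X.Over (Spec (CommRingCat.of k)) := ⟨π ≫ CohB1.ProjSpace.toSpec n k⟩
  haveI : Mono (ClSub.idealModι (𝔞.comap π)) := inferInstanceAs (Mono (kernel.ι _))
  exact subsingleton_HH0_tensor (A := k) (L := (Scheme.Modules.pullback π).obj (Twist.twistProjSpace n k c))
    (Euler.isFinLocFree_of_isInvertible (hasCls_pullTwist π c).1) (ClSub.idealModι (𝔞.comap π))
    (subsingleton_pullTwist hS π hπ c 0 (by omega) (by have := hS.pos; omega))

include hS h𝔞 hπ in
/-- First cohomology from an ideal of prescribed regularity. -/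
theorem subsingleton_one {F : (CohB1.ProjSpace n k).Modules} (ι : F ⟶ Coh.structureModule (CohB1.ProjSpace n k))
    (hF : Coh.IsCoh F) (m : ℤ) (hreg : Curv2.IsMRegular k n F m)
    (hle : ∀ x, LinearMap.range (stalkLin ι x) ≤ LinearMap.range (stalkLin (ClSub.idealModι 𝔞) x))
    (hsurj : ∀ x, x ∉ S → Function.Surjective (stalkLin ι x)) [Mono ι] (c : ℤ) (hc : m - 1 ≤ c) :
    Subsingleton (Coh.HH X (CohB1.tensorMod ((Scheme.Modules.pullback π).obj (Twist.twistProjSpace n k c))
      (ClSub.idealMod (𝔞.comap π))) 1) := by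
  refine subsingleton_tensor_of_push π hS h𝔞 hπ c 1 ?_
  obtain ⟨φ, θ, hφ, hθ⟩ := exists_seq π hS h𝔞 hπ
  haveI := hφ
  have hz : ι ≫ ClSub.toSubscheme 𝔞 = 0 := HomColim20.hom_ext_stalkLin fun x v => by
    obtain ⟨w, hw⟩ := hle x (LinearMap.mem_range_self _ v)
    rw [QCoh.stalkLin_comp, GenHom20.stalkLin_zero, ← hw, ← QCoh.stalkLin_comp,
      show ClSub.idealModι 𝔞 ≫ ClSub.toSubscheme 𝔞 = 0 from kernel.condition _, GenHom20.stalkLin_zero]
  let ψ : F ⟶ (Scheme.Modules.pushforward π).obj (ClSub.idealMod (𝔞.comap π)) :=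
    kernel.lift (ClSub.toSubscheme 𝔞) ι hz ≫ θ
  have hψ : ψ ≫ φ = ι := by
    show (_ ≫ _) ≫ _ = _
    rw [Category.assoc, hθ]
    exact kernel.lift_ι _ _ _
  haveI : Mono ψ := mono_of_mono_fac hψ
  have hseq : (ShortComplex.mk ψ (cokernel.π ψ) (cokernel.condition ψ)).ShortExact :=
    { exact := ShortComplex.exact_of_g_is_cokernel _ (cokernelIsCokernel ψ) }
  have hsupp := support_cokernel_subset ψ (T := S) fun x hx v => by
    obtain ⟨w, hw⟩ := hsurj x hx (stalkLin φ x v)
    exact ⟨w, QCoh.stalkLin_injective φ x (by rw [← QCoh.stalkLin_comp, hψ, hw])⟩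
  exact CMReg.sub_X₂ hseq (CMReg.propagate hF m hreg 1 c le_rfl (by simpa using hc))
    (subsingleton_Ft_finite hS hsupp c le_rfl)

end GrothLib.BlowPts12
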